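import Cfsg.Agent.Lib.ThType.Psi.Images

/-!
# The element h of the recognition
-/

set_option autoImplicit false
set_option maxRecDepth 100000
set_option linter.unusedSectionVars false

namespace CfsgLib.ThType.Psi

open CfsgLib.ThOut CfsgLib.ThType.Local Subgroup

attribute [local irreducible] qW conjT blocks sameM

variable [IsSimpleGroup Cfsg.Spor.Th] [Finite Cfsg.Spor.Th]

/-- The conjugate of c by d. -/
noncomputable abbrev fH : ThOut.Hs := hev [6, 4, 6]

theorem f_facts : fH * fH = 1 ∧ Commute fH (hel 10) ∧ Commute fH (hel 12) ∧ fH * cH * fH = cH * zH := by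
  have h1 : ∀ g : ℕ, hev [g] = hel g := fun g => by simp [hev]
  refine ⟨?_, ?_, ?_, ?_⟩
  · rw [← hev_append]; exact (hev_eq (by decide) (by decide) (by decide +kernel)).trans hev_nil
  · show _ * _ = _ * _
    rw [← h1 10, ← hev_append, ← hev_append]
    exact hev_eq (by decide) (by decide) (by decide +kernel)
  · show _ * _ = _ * _
    rw [← h1 12, ← hev_append, ← hev_append]
    exact hev_eq (by decide) (by decide) (by decide +kernel)
  · rw [← h_zero, ← hev_append, ← hev_append, ← hev_append]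
    exact hev_eq (by decide) (by decide) (by decide +kernel)

theorem pc_low : ((List.range 4).all fun v => !(pc v 8 1 % 2 == 0) || decide (v < 2)) = true := by
  decide +kernel

variable (hC : Nat.card (Subgroup.centralizer ({el 0} : Set Cfsg.Spor.Th)) ≤ 92897280)
variable {G : Type*} [Group G] {θ : ThOut.Hs →* G} {g : G}

include hC

/-- An element centralising a, c, s and t. -/
theorem central_four (hinj : Function.Injective θ) (hr : centralizer ({θ zH} : Set G) = θ.range) {j : G}
    (ha : Commute j (θ zH)) (hc : Commute j (θ cH)) (hs : Commute j (θ (hel 10)))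
    (ht : Commute j (θ (hel 12))) : ∃ i < 4, j = θ (hev (qe i)) := by
  obtain ⟨x, hx⟩ : j ∈ θ.range := hr ▸ mem_centralizer_singleton_iff.2 ha.eq
  have key : ∀ y, Commute j (θ y) → x * y = y * x := fun y h => hinj (by
    rw [map_mul, map_mul, hx]; exact h.eq)
  obtain ⟨i, hi, e⟩ := fixed_st hC (key _ hs) (key _ ht)
  refine ⟨i, ?_, by rw [← hx, e]⟩
  have hb : bar x = eb 8 (i / 2) := by rw [e, ThOut.bar_qe]
  have hp : pc (i / 2) 8 1 % 2 = 0 := perp (key _ hc) hb eb_one.symm
  have h := List.all_eq_true.1 pc_low (i / 2) (List.mem_range.2 (by omega))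
  simp only [hp, beq_self_eq_true, Bool.not_true, Bool.false_or, decide_eq_true_eq] at h
  omega

theorem Cyc.cube (S : Cyc θ g) (hs : Commute g (θ (hel 10))) (ht : Commute g (θ (hel 12))) :
    g ^ 3 = 1 := by
  have ha : (g ^ 3)⁻¹ * θ zH * g ^ 3 = θ zH := by
    rw [show (g ^ 3)⁻¹ * θ zH * g ^ 3 = g⁻¹ * (g⁻¹ * (g⁻¹ * θ zH * g) * g) * g by
      simp [pow_succ, mul_assoc], S.conj_a, S.conj_c, S.ac]
  have hc : (g ^ 3)⁻¹ * θ cH * g ^ 3 = θ cH := by
    rw [show (g ^ 3)⁻¹ * θ cH * g ^ 3 = g⁻¹ * (g⁻¹ * (g⁻¹ * θ cH * g) * g) * g by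
      simp [pow_succ, mul_assoc], S.conj_c, S.ac, S.conj_a]
  have toC : ∀ {y : G}, (g ^ 3)⁻¹ * y * g ^ 3 = y → Commute (g ^ 3) y := fun {y} h => by
    show _ * _ = _ * _
    conv_lhs => rw [← h]
    group
  obtain ⟨i, hi, e⟩ := central_four hC S.inj S.range (toC ha) (toC hc) (hs.pow_left 3) (ht.pow_left 3)
  have hfix : θ (hev (qe i)) = g⁻¹ * θ (hev (qe i)) * g := by
    rw [← e]; group
  have hz : hev (qe 1) = zH := by rw [show qe 1 = [0] by decide +kernel, h_zero]
  have hc2 : hev (qe 2) = cH := by rw [show qe 2 = [4] by decide +kernel]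
  have h3 : hev (qe 3) = cH * zH := by
    rw [show qe 3 = [4] ++ [0] by decide +kernel, hev_append, h_zero]
  have ne : ∀ a b : ℕ, a < 4 → b < 4 → θ (hev (qe a)) = θ (hev (qe b)) → a = b := fun a b a4 b4 h =>
    qe_inj (by omega) (by omega) (S.inj h)
  interval_cases i
  · rw [e, qe_zero, map_one]
  · rw [hz, S.conj_a, ← hz, ← hc2] at hfix
    exact absurd (ne _ _ (by norm_num) (by norm_num) hfix) (by norm_num)
  · rw [hc2, S.conj_c, ← h3, ← hc2] at hfix
    exact absurd (ne _ _ (by norm_num) (by norm_num) hfix) (by norm_num)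
  · rw [h3, S.ac, ← h3, ← hz] at hfix
    exact absurd (ne _ _ (by norm_num) (by norm_num) hfix) (by norm_num)

/-- The square of f times g is one, or the product of a and c. -/
theorem Cyc.square (S : Cyc θ g) (hs : Commute g (θ (hel 10))) (ht : Commute g (θ (hel 12))) :
    (θ fH * g) ^ 2 = 1 ∨ (θ fH * g) ^ 2 = θ (cH * zH) := by
  obtain ⟨f2, fs, ft, fc⟩ := f_facts
  set j := θ fH * g with hj
  have fi : (θ fH)⁻¹ = θ fH := inv_eq_of_mul_eq_one_right (by rw [← map_mul, f2, map_one])
  have ka : j⁻¹ * θ zH * j = θ cH := by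
    rw [hj, show (θ fH * g)⁻¹ * θ zH * (θ fH * g) = g⁻¹ * ((θ fH)⁻¹ * θ zH * θ fH) * g by group, fi,
      ← map_mul, ← map_mul, ← zH_comm fH, mul_assoc zH, f2, mul_one, S.conj_a]
  have kc : j⁻¹ * θ cH * j = θ zH := by
    rw [hj, show (θ fH * g)⁻¹ * θ cH * (θ fH * g) = g⁻¹ * ((θ fH)⁻¹ * θ cH * θ fH) * g by group, fi,
      ← map_mul, ← map_mul, fc, S.ac]
  have toC : ∀ {y : G}, (j ^ 2)⁻¹ * y * j ^ 2 = y → Commute (j ^ 2) y := fun {y} h => by
    show _ * _ = _ * _
    conv_lhs => rw [← h]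
    group
  have expand : ∀ y : G, (j ^ 2)⁻¹ * y * j ^ 2 = j⁻¹ * (j⁻¹ * y * j) * j := fun y => by
    simp [pow_two, mul_assoc]
  obtain ⟨i, hi, e⟩ := central_four hC S.inj S.range (toC (by rw [expand, ka, kc]))
    (toC (by rw [expand, kc, ka])) (((fs.map θ).mul_left hs).pow_left 2) (((ft.map θ).mul_left ht).pow_left 2)
  have hfix : θ (hev (qe i)) = j⁻¹ * θ (hev (qe i)) * j := by
    rw [← e]; group
  have hz : hev (qe 1) = zH := by rw [show qe 1 = [0] by decide +kernel, h_zero]
  have hc2 : hev (qe 2) = cH := by rw [show qe 2 = [4] by decide +kernel]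
  have h3 : hev (qe 3) = cH * zH := by
    rw [show qe 3 = [4] ++ [0] by decide +kernel, hev_append, h_zero]
  interval_cases i
  · left; rw [e, qe_zero, map_one]
  · rw [hz, ka, ← hz, ← hc2] at hfix
    exact absurd (qe_inj (by norm_num) (by norm_num) (S.inj hfix)) (by norm_num)
  · rw [hc2, kc, ← hz, ← hc2] at hfix
    exact absurd (qe_inj (by norm_num) (by norm_num) (S.inj hfix)) (by norm_num)
  · right; rw [e, h3]

/-- The element h. -/
theorem exists_h (hinj : Function.Injective θ) (hrange : centralizer ({θ zH} : Set G) = θ.range) (h0 : G)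
    (ha : h0 * θ zH * h0⁻¹ = θ zH * θ cH) (hc : h0 * θ cH * h0⁻¹ = θ zH) :
    ∃ h : G, HHyp θ h := by
  have c1 : h0⁻¹ * θ zH * h0 = θ cH := by
    calc h0⁻¹ * θ zH * h0 = h0⁻¹ * (h0 * θ cH * h0⁻¹) * h0 := by rw [hc]
      _ = θ cH := by group
  have c2 : h0⁻¹ * θ cH * h0 = θ (cH * zH) := by
    have e : θ cH = θ zH * (h0 * θ zH * h0⁻¹) := by
      rw [ha, ← mul_assoc, ← map_mul θ zH zH, zH_sq, map_one, one_mul]
    calc h0⁻¹ * θ cH * h0 = h0⁻¹ * (θ zH * (h0 * θ zH * h0⁻¹)) * h0 := by rw [← e]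
      _ = h0⁻¹ * θ zH * h0 * θ zH := by group
      _ = _ := by rw [c1, map_mul]
  have S0 : Cyc θ h0 := ⟨hinj, hrange, c1, c2⟩
  obtain ⟨h1, S1, ht, m, hm, hs⟩ := S0.exists_st hC
  obtain ⟨rfl, he, hr, hu⟩ := S1.exists_images hC ht hm hs
  rw [pow_one] at hs
  have mk : ∀ h : G, Cyc θ h → h⁻¹ * θ (hel 12) * h = θ (hel 12) → h⁻¹ * θ (hel 10) * h = θ (hel 10) →
      h⁻¹ * θ (hel 8) * h = θ (hev (qe 407)) → h⁻¹ * θ rH * h = θ rH →
      h⁻¹ * θ (hel 14) * h = θ (hev (qe 14) * hev [14]) → (θ fH * h) ^ 2 = 1 → HHyp θ h := by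
    intro h S kt ks ke kr ku k2
    have toC : ∀ {y : G}, h⁻¹ * y * h = y → Commute h y := fun {y} e => by
      show _ * _ = _ * _
      conv_lhs => rw [← e]
      group
    have h1' : ∀ g : ℕ, hev [g] = hel g := fun g => by simp [hev]
    exact
      { inj := S.inj
        range := S.range
        cube := S.cube hC (toC ks) (toC kt)
        comm_s := toC ks
        comm_t := toC kt
        comm_q := r_word ▸ toC kr
        inverted := k2
        conj_a := by rw [h_zero]; exact S.conj_a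
        conj_c := by
          rw [show hev [4, 0] = cH * zH by rw [← h_zero, ← hev_append]; rfl]; exact S.conj_c
        conj_e := by rw [h1', ← q_word]; exact ke
        conj_u := by rw [← u_word, h1']; exact ku }
  rcases S1.square hC (show Commute h1 (θ (hel 10)) from by
      show _ * _ = _ * _
      conv_lhs => rw [← hs]
      group) (show Commute h1 (θ (hel 12)) from by
      show _ * _ = _ * _
      conv_lhs => rw [← ht]
      group) with e | e
  · exact ⟨h1, mk h1 S1 ht hs he hr hu e⟩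
  · refine ⟨h1 * θ zH, mk _ (S1.mul (show Commute zH cH from a_c)) ?_ ?_ ?_ ?_ ?_ ?_⟩
    all_goals first
      | (rw [pow_two]
         calc θ fH * (h1 * θ zH) * (θ fH * (h1 * θ zH))
             = θ fH * h1 * (θ zH * θ fH) * h1 * θ zH := by group
           _ = θ fH * h1 * (θ fH * θ zH) * h1 * θ zH := by rw [← map_mul, zH_comm, map_mul]
           _ = θ fH * h1 * θ fH * (h1 * (h1⁻¹ * θ zH * h1)) * θ zH := by group
           _ = (θ fH * h1) ^ 2 * (θ cH * θ zH) := by rw [S1.conj_a, pow_two]; group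
           _ = 1 := by
             rw [e, ← map_mul, ← map_mul, show cH * zH * (cH * zH) = 1 by
               rw [mul_assoc, ← mul_assoc zH, a_c, mul_assoc, zH_sq, mul_one, c_sq], map_one])
      | (have key : ∀ {x : ThOut.Hs} {y : G}, h1⁻¹ * y * h1 = θ x → (h1 * θ zH)⁻¹ * y * (h1 * θ zH) = θ x :=
           fun {x y} hxy => by
             rw [show (h1 * θ zH)⁻¹ * y * (h1 * θ zH) = (θ zH)⁻¹ * (h1⁻¹ * y * h1) * θ zH by group, hxy,
               mul_assoc, ← map_mul, ← zH_comm, map_mul, inv_mul_cancel_left]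
         first | exact key ht | exact key hs | exact key he | exact key hr | exact key hu)

end CfsgLib.ThType.Psi
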