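import Cfsg.Agent.Lib.ThType.Psi.Codes
import Cfsg.Agent.Lib.ThType.Coords.Graph
import Cfsg.Agent.Lib.ThType.Fusion.NineCent

/-!
# The twisted centraliser does not occur

In the twisted centraliser every root of the central involution lies in the normal two-group, while the element
moving c to the central involution carries two roots of c with non-commuting permutations to such roots.
-/

set_option autoImplicit false
set_option maxRecDepth 100000
set_option linter.unusedSectionVars false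

namespace CfsgLib.ThType.Psi

open CfsgLib.ThType.Coords (zH_mem)
open Subgroup CfsgLib.ExtraNine CfsgLib.ThOut CfsgLib.ThType.Local Equiv

attribute [local irreducible] qW conjT blocks sameM

/-- The square of a code followed by a word with square of the given code. -/
def sqC (w : List ℕ) (j0 j : ℕ) : ℕ := mulC (mulC j (actW w j)) j0

theorem no_root : ((List.range 512).all fun j =>
    !(sqC [14] 3 j == 0) && !(sqC [8] 0 j == 1) &&
      decide (sqC [14] 3 j < 512) && decide (sqC [8] 0 j < 512)) = true := by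
  decide +kernel

/-- Even permutations carrying the permutations of the letters to the standard ones. -/
def mover (L : List ℕ) (i : Fin 9) : Fin 9 := Fin.ofNat 9 (L.getD i 0)

theorem mover_ok :
    (∀ L ∈ [[4, 5, 6, 0, 2, 3, 8, 1, 7], [8, 0, 1, 2, 4, 3, 6, 5, 7], [3, 4, 7, 5, 0, 1, 2, 6, 8],
        [1, 3, 2, 5, 4, 6, 7, 8, 0]], (Nine.sorts L && Nine.evenL L) = true) ∧
    ∀ i : Fin 9,
      Nine.aA.getD (mover [4, 5, 6, 0, 2, 3, 8, 1, 7] i) 0 = mover [4, 5, 6, 0, 2, 3, 8, 1, 7] (permE 14 i) ∧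
      Nine.aB.getD (mover [8, 0, 1, 2, 4, 3, 6, 5, 7] i) 0 = mover [8, 0, 1, 2, 4, 3, 6, 5, 7] (permE 8 i) ∧
      permE 14 (mover [3, 4, 7, 5, 0, 1, 2, 6, 8] i) =
        mover [3, 4, 7, 5, 0, 1, 2, 6, 8] (((Coords.cg 0 * Coords.cg 1 : Perm.A9) : Perm (Fin 9)) i) ∧
      permE 8 (mover [1, 3, 2, 5, 4, 6, 7, 8, 0] i) =
        mover [1, 3, 2, 5, 4, 6, 7, 8, 0] (((Coords.quadA : Perm.A9) : Perm (Fin 9)) i) := by
  decide +kernel

theorem el_of {L : List ℕ} (h : (Nine.sorts L && Nine.evenL L) = true) :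
    ∃ g : Perm.A9, ∀ i : Fin 9, (g : Perm (Fin 9)) i = mover L i := by
  obtain ⟨a, ha, hA⟩ := Nine.exists_perm L h
  refine ⟨⟨a, hA⟩, fun i => Fin.ext ?_⟩
  show (a i : ℕ) = _
  rw [← Nine.enc_getElem a i, ha]
  simp only [mover, Fin.val_ofNat]
  refine (Nat.mod_eq_of_lt ?_).symm
  rw [← ha, Nine.enc_getElem]
  exact (a i).isLt

theorem perms_ne : permE 14 * ((permE 10)⁻¹ * permE 14 * permE 10) ≠
    ((permE 10)⁻¹ * permE 14 * permE 10) * permE 14 := by
  decide +kernel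

variable [IsSimpleGroup Cfsg.Spor.Th] [Finite Cfsg.Spor.Th]

theorem piA_letter {g : ℕ} (hg : g ∈ gL) : ((piA (hev [g]) : Perm.A9) : Perm (Fin 9)) = permE g := by
  rw [coe_piA, pi_hev (fun a ha => List.mem_singleton.1 ha ▸ hg)]
  simp

/-- The permutations of involutions are those of the letters u and e. -/
theorem invol_class {σ : Perm.A9} (h2 : σ * σ = 1) (h1 : σ ≠ 1) :
    (∃ r : Perm.A9, r * σ * r⁻¹ = piA (hev [14]) ∧ ∃ τ : Perm.A9,
      σ = τ * (Coords.cg 0 * Coords.cg 1) * τ⁻¹) ∨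
    (∃ r : Perm.A9, r * σ * r⁻¹ = piA (hev [8]) ∧ ∃ τ : Perm.A9, σ = τ * Coords.quadA * τ⁻¹) := by
  obtain ⟨g, hg, hg'⟩ := Nine.classes σ.2 (congrArg Subtype.val h2)
    fun e => h1 (Subtype.ext e)
  obtain ⟨hL, hm⟩ := mover_ok
  obtain ⟨a, ha⟩ := el_of (hL _ (by simp : [4, 5, 6, 0, 2, 3, 8, 1, 7] ∈ _))
  obtain ⟨b, hb⟩ := el_of (hL _ (by simp : [8, 0, 1, 2, 4, 3, 6, 5, 7] ∈ _))
  obtain ⟨p, hp⟩ := el_of (hL _ (by simp : [3, 4, 7, 5, 0, 1, 2, 6, 8] ∈ _))
  obtain ⟨q, hq⟩ := el_of (hL _ (by simp : [1, 3, 2, 5, 4, 6, 7, 8, 0] ∈ _))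
  rcases hg' with e | e
  · left
    have h : (⟨g, hg⟩ : Perm.A9) * σ * (⟨g, hg⟩ : Perm.A9)⁻¹ * a = a * piA (hev [14]) := by
      refine Subtype.ext (Equiv.ext fun i => Fin.ext ?_)
      simp only [Subgroup.coe_mul, Subgroup.coe_inv, Perm.mul_apply, piA_letter (g := 14) (by decide)]
      have h' := Nine.enc_getElem (g * (σ : Perm (Fin 9)) * g⁻¹) (a.1 i)
      rw [e, ha i, (hm i).1, ← ha (permE 14 i)] at h'
      simpa [ha] using h'.symm
    have hr : (a⁻¹ * ⟨g, hg⟩) * σ * (a⁻¹ * ⟨g, hg⟩)⁻¹ = piA (hev [14]) := by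
      calc (a⁻¹ * ⟨g, hg⟩) * σ * (a⁻¹ * ⟨g, hg⟩)⁻¹
          = a⁻¹ * ((⟨g, hg⟩ : Perm.A9) * σ * (⟨g, hg⟩ : Perm.A9)⁻¹ * a) := by group
        _ = _ := by rw [h, inv_mul_cancel_left]
    refine ⟨_, hr, (a⁻¹ * ⟨g, hg⟩)⁻¹ * p, ?_⟩
    have hD : p * (Coords.cg 0 * Coords.cg 1) * p⁻¹ = piA (hev [14]) := by
      rw [mul_inv_eq_iff_eq_mul]
      refine Subtype.ext (Equiv.ext fun i => ?_)
      simp only [Subgroup.coe_mul, Perm.mul_apply, piA_letter (g := 14) (by decide)]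
      rw [hp i, (hm i).2.2.1, ← hp]
      rfl
    rw [← hD] at hr
    calc σ = (a⁻¹ * ⟨g, hg⟩)⁻¹ * ((a⁻¹ * ⟨g, hg⟩) * σ * (a⁻¹ * ⟨g, hg⟩)⁻¹) * (a⁻¹ * ⟨g, hg⟩) := by group
      _ = _ := by rw [hr]; group
  · right
    have h : (⟨g, hg⟩ : Perm.A9) * σ * (⟨g, hg⟩ : Perm.A9)⁻¹ * b = b * piA (hev [8]) := by
      refine Subtype.ext (Equiv.ext fun i => Fin.ext ?_)
      simp only [Subgroup.coe_mul, Subgroup.coe_inv, Perm.mul_apply, piA_letter (g := 8) (by decide)]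
      have h' := Nine.enc_getElem (g * (σ : Perm (Fin 9)) * g⁻¹) (b.1 i)
      rw [e, hb i, (hm i).2.1, ← hb (permE 8 i)] at h'
      simpa [hb] using h'.symm
    have hr : (b⁻¹ * ⟨g, hg⟩) * σ * (b⁻¹ * ⟨g, hg⟩)⁻¹ = piA (hev [8]) := by
      calc (b⁻¹ * ⟨g, hg⟩) * σ * (b⁻¹ * ⟨g, hg⟩)⁻¹
          = b⁻¹ * ((⟨g, hg⟩ : Perm.A9) * σ * (⟨g, hg⟩ : Perm.A9)⁻¹ * b) := by group
        _ = _ := by rw [h, inv_mul_cancel_left]
    refine ⟨_, hr, (b⁻¹ * ⟨g, hg⟩)⁻¹ * q, ?_⟩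
    have hD : q * Coords.quadA * q⁻¹ = piA (hev [8]) := by
      rw [mul_inv_eq_iff_eq_mul]
      refine Subtype.ext (Equiv.ext fun i => ?_)
      simp only [Subgroup.coe_mul, Perm.mul_apply, piA_letter (g := 8) (by decide)]
      rw [hq i, (hm i).2.2.2, ← hq]
      try rfl
    rw [← hD] at hr
    calc σ = (b⁻¹ * ⟨g, hg⟩)⁻¹ * ((b⁻¹ * ⟨g, hg⟩) * σ * (b⁻¹ * ⟨g, hg⟩)⁻¹) * (b⁻¹ * ⟨g, hg⟩) := by group
      _ = _ := by rw [hr]; group

variable (hC : Nat.card (Subgroup.centralizer ({el 0} : Set Cfsg.Spor.Th)) ≤ 92897280)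
include hC

theorem word_sq {w : List ℕ} {j0 j : ℕ} (hw : ∀ g ∈ w, g ∈ gL) (h0 : hev w * hev w = hev (qe j0)) :
    hev (qe j) * hev w * (hev (qe j) * hev w) = hev (qe (sqC w j0 j)) := by
  rw [sqC, ← mulC_eq, ← mulC_eq, ← h0]
  calc hev (qe j) * hev w * (hev (qe j) * hev w) = hev (qe j) * (hev w * hev (qe j)) * hev w := by group
    _ = _ := by rw [actW_eq hw]; group

/-- An element over the permutation of a word is a code followed by the word. -/
theorem over_word {x : ThOut.Hs} {w : List ℕ} (h : piA x = piA (hev w)) :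
    ∃ j < 512, x = hev (qe j) * hev w := by
  have hq : x * (hev w)⁻¹ ∈ ThOut.Qs := (piA_eq_one hC).1 (by rw [map_mul, map_inv, h, mul_inv_cancel])
  obtain ⟨v, hv, hb⟩ := hq
  rcases code_split hb with e | e
  · exact ⟨2 * v, by omega, by rw [← e, inv_mul_cancel_right]⟩
  · exact ⟨2 * v + 1, by omega, by rw [← e, inv_mul_cancel_right]⟩

variable {G : Type*} [Group G] {V : Type*} [AddCommGroup V] {N : Nine G V} {E : Coords.Exact N}
variable {Γ : Subgroup (ThOut.Hs × G)} (T : Coords.Twisted E Γ)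

include T in
/-- An element acting as one of the model whose image is in the two-group comes from the two-group. -/
theorem left_mem_qs {x : ThOut.Hs} {q : ↥ThOut.Qs} (h : (x, E.θ q) ∈ Γ) : x ∈ ThOut.Qs := by
  have h1 := mul_mem h (inv_mem (T.qs q))
  rw [Prod.inv_mk, Prod.mk_mul_mk, mul_inv_cancel] at h1
  have hx : ∀ y ∈ ThOut.Qs, x * (q : ThOut.Hs)⁻¹ * y = y * (x * (q : ThOut.Hs)⁻¹) := by
    intro y hy
    have hq' : x * (q : ThOut.Hs)⁻¹ * y * (x * (q : ThOut.Hs)⁻¹)⁻¹ ∈ ThOut.Qs :=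
      (qs_normal hC).conj_mem y hy _
    have e := T.conj _ h1 ⟨y, hy⟩ ⟨_, hq'⟩ rfl
    rw [one_mul, inv_one, mul_one] at e
    exact mul_inv_eq_iff_eq_mul.1 (congrArg Subtype.val (E.inj e)).symm
  have hz : (x * (q : ThOut.Hs)⁻¹) ∈ ThOut.Qs := by
    rcases cent_qs hC hx with e | e <;> rw [e]
    exacts [one_mem _, zH_mem]
  simpa using mul_mem hz q.2

include T in
/-- The roots of the central involution lie over the two-group. -/
theorem root_mem {x : ThOut.Hs} {y : G} (h : (x, y) ∈ Γ) (hy : y * y = N.z) : x ∈ ThOut.Qs := by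
  have hz : E.θ ⟨zH, zH_mem⟩ = N.z := E.θ_z _ rfl
  have hx2 : x * x ∈ ThOut.Qs := by
    have := mul_mem h h
    rw [Prod.mk_mul_mk, hy, ← hz] at this
    exact left_mem_qs hC T this
  by_contra hx
  have hσ1 : piA x ≠ 1 := fun e => hx ((piA_eq_one hC).1 e)
  have hσ2 : piA x * piA x = 1 := by rw [← map_mul]; exact (piA_eq_one hC).2 hx2
  have sq14 : hev [14] * hev [14] = hev (qe 3) := by
    rw [← hev_append]
    exact hev_eq (by decide) (okW_qe _) (by decide +kernel)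
  have sq8 : hev [8] * hev [8] = hev (qe 0) := by
    rw [← hev_append]
    exact hev_eq (by decide) (okW_qe _) (by decide +kernel)
  rcases invol_class hσ2 hσ1 with ⟨r, hr, hτ⟩ | ⟨r, hr, hτ⟩
  · obtain ⟨R, rfl⟩ := piA_surjective r
    rw [← map_inv, ← map_mul, ← map_mul] at hr
    obtain ⟨j, hj, e⟩ := over_word hC hr
    have e2 : x * x = 1 := by
      have h2 := T.double x y h hτ ⟨_, hx2⟩ rfl
      rw [hy, eq_comm, mul_eq_right] at h2
      exact congrArg Subtype.val (E.inj (h2.trans (map_one _).symm))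
    have := word_sq hC (j := j) (w := [14]) (j0 := 3) (by decide) sq14
    rw [← e, show R * x * R⁻¹ * (R * x * R⁻¹) = R * (x * x) * R⁻¹ by group, e2, mul_one, mul_inv_cancel,
      ← qe_zero] at this
    have hk := List.all_eq_true.1 no_root j (List.mem_range.2 hj)
    simp only [Bool.and_eq_true, Bool.not_eq_true', beq_eq_false_iff_ne, decide_eq_true_eq] at hk
    exact hk.1.1.1 (qe_inj (by norm_num) hk.1.2 this).symm
  · obtain ⟨R, rfl⟩ := piA_surjective r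
    rw [← map_inv, ← map_mul, ← map_mul] at hr
    obtain ⟨j, hj, e⟩ := over_word hC hr
    have e2 : x * x = zH := by
      have h2 := T.quad x y h hτ ⟨_, hx2⟩ rfl
      rw [hy, ← hz] at h2
      exact (congrArg Subtype.val (E.inj h2)).symm
    have := word_sq hC (j := j) (w := [8]) (j0 := 0) (by decide) sq8
    have hz1 : hev (qe 1) = zH := by rw [show qe 1 = [0] by decide +kernel]; simp [hev, zH]
    rw [← e, show R * x * R⁻¹ * (R * x * R⁻¹) = R * (x * x) * R⁻¹ by group, e2, ← zH_comm R,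
      mul_inv_cancel_right, ← hz1] at this
    have hk := List.all_eq_true.1 no_root j (List.mem_range.2 hj)
    simp only [Bool.and_eq_true, Bool.not_eq_true', beq_eq_false_iff_ne, decide_eq_true_eq] at hk
    exact hk.1.1.2 (qe_inj (by norm_num) hk.2 this).symm

include T in
/-- The twisted centraliser does not occur. -/
theorem twisted_false (hswap : ∀ c ∈ N.Q, c * c = 1 → c ≠ 1 → c ≠ N.z →
    ∃ h : G, h * N.z * h⁻¹ = N.z * c ∧ h * c * h⁻¹ = N.z) : False := by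
  have hz : E.θ ⟨zH, zH_mem⟩ = N.z := E.θ_z _ rfl
  have hcQ : hev [4] ∈ ThOut.Qs := ⟨1, by norm_num, Local.eb_one.symm⟩
  set c : G := E.θ ⟨_, hcQ⟩ with hc
  have hc2q : hev [4] = hev (qe 2) := by rw [show qe 2 = [4] by decide +kernel]
  have hcH2 : hev [4] * hev [4] = 1 := by
    rw [hc2q, mulC_eq, show mulC 2 2 = 0 by decide +kernel, qe_zero]
  have hc2 : c * c = 1 := by
    rw [hc, ← map_mul, show (⟨_, hcQ⟩ : ↥ThOut.Qs) * ⟨_, hcQ⟩ = 1 from Subtype.ext hcH2, map_one]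
  have hc1 : c ≠ 1 := by
    intro e
    rw [hc, ← map_one E.θ] at e
    have := congrArg Subtype.val (E.inj e)
    change hev [4] = (1 : ThOut.Hs) at this
    rw [hc2q, ← qe_zero] at this
    exact absurd (qe_inj (by norm_num) (by norm_num) this) (by norm_num)
  have hcz : c ≠ N.z := by
    intro e
    rw [hc, ← hz] at e
    have h1 : hev (qe 2) = hev (qe 1) := by
      rw [← hc2q, show qe 1 = [0] by decide +kernel]
      simpa [hev, zH] using congrArg Subtype.val (E.inj e)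
    exact absurd (qe_inj (by norm_num) (by norm_num) h1) (by norm_num)
  obtain ⟨h, h1, h2⟩ := hswap c (E.range ▸ ⟨_, rfl⟩) hc2 hc1 hcz
  -- two roots of c
  have roots : ∀ x : ThOut.Hs, x * x = hev [4] * zH → x * hev [4] * x⁻¹ = hev [4] →
      (∃ τ : Perm.A9, piA x = τ * (Coords.cg 0 * Coords.cg 1) * τ⁻¹) →
      ∃ g, (x, g) ∈ Γ ∧ (∃ x', (x', h * g * h⁻¹) ∈ Γ ∧ x' ∈ ThOut.Qs) := by
    intro x hx hxc hτ
    obtain ⟨g, hg⟩ := T.left x
    refine ⟨g, hg, ?_⟩
    have hq : hev [4] * zH ∈ ThOut.Qs := mul_mem hcQ zH_mem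
    have hgg : g * g = c := by
      rw [T.double x g hg hτ ⟨_, hq⟩ hx,
        show (⟨_, hq⟩ : ↥ThOut.Qs) = ⟨_, hcQ⟩ * ⟨zH, zH_mem⟩ from rfl, map_mul, hz, ← hc, mul_assoc, N.zz,
        mul_one]
    have hgc : g * c * g⁻¹ = c := T.conj _ hg _ _ hxc
    have hgz : Commute g N.z := mem_centralizer_singleton_iff.1 (T.mem _ hg)
    have hh : h * g * h⁻¹ ∈ centralizer ({N.z} : Set G) := by
      rw [mem_centralizer_singleton_iff, ← h2]
      calc h * g * h⁻¹ * (h * c * h⁻¹) = h * (g * c * g⁻¹) * g * h⁻¹ := by group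
        _ = _ := by rw [hgc]; group
    obtain ⟨x', hx'⟩ := T.right _ hh
    refine ⟨x', hx', root_mem hC T hx' ?_⟩
    rw [show h * g * h⁻¹ * (h * g * h⁻¹) = h * (g * g) * h⁻¹ by group, hgg, h2]
  obtain ⟨u2, uc⟩ : hev [14] * hev [14] = hev [4] * zH ∧ hev [14] * hev [4] = hev [4] * hev [14] := by
    have a := hev_eq (u := [14, 14]) (v := [4, 0]) (by decide) (by decide) (by decide +kernel)
    have b := hev_eq (u := [14, 4]) (v := [4, 14]) (by decide) (by decide) (by decide +kernel)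
    simp [hev, zH] at a b ⊢
    exact ⟨a, b⟩
  have sc : Commute (hev [10]) (hev [4]) := by
    show _ * _ = _ * _
    rw [← hev_append, ← hev_append]
    exact hev_eq (by decide) (by decide) (by decide +kernel)
  obtain ⟨hL, hm⟩ := mover_ok
  obtain ⟨p, hp⟩ := el_of (hL _ (by simp : [3, 4, 7, 5, 0, 1, 2, 6, 8] ∈ _))
  have hD : piA (hev [14]) = p * (Coords.cg 0 * Coords.cg 1) * p⁻¹ := by
    rw [eq_mul_inv_iff_mul_eq]
    refine Subtype.ext (Equiv.ext fun i => ?_)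
    simp only [Subgroup.coe_mul, Perm.mul_apply, piA_letter (g := 14) (by decide)]
    rw [hp i, (hm i).2.2.1, ← hp]
    rfl
  obtain ⟨g1, hg1, x1, hx1, hx1q⟩ := roots (hev [14]) u2 (mul_inv_eq_iff_eq_mul.2 uc) ⟨p, hD⟩
  set v : ThOut.Hs := (hev [10])⁻¹ * hev [14] * hev [10] with hv
  obtain ⟨g2, hg2, x2, hx2, hx2q⟩ := roots v (by
      rw [hv, show (hev [10])⁻¹ * hev [14] * hev [10] * ((hev [10])⁻¹ * hev [14] * hev [10]) =
        (hev [10])⁻¹ * (hev [14] * hev [14]) * hev [10] by group, u2, mul_assoc,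
        ← (sc.mul_right (zH_comm (hev [10])).symm).eq, inv_mul_cancel_left]) (by
      refine mul_inv_eq_iff_eq_mul.2 ?_
      exact ((sc.inv_left.mul_left (show Commute (hev [14]) (hev [4]) from uc)).mul_left sc).eq)
    ⟨(piA (hev [10]))⁻¹ * p, by rw [hv, map_mul, map_mul, map_inv, hD]; group⟩
  -- the commutators
  have hcom := mul_mem (mul_mem (mul_mem hx1 hx2) (inv_mem hx1)) (inv_mem hx2)
  simp only [Prod.inv_mk, Prod.mk_mul_mk] at hcom
  have hq : x1 * x2 * x1⁻¹ * x2⁻¹ = 1 ∨ x1 * x2 * x1⁻¹ * x2⁻¹ = zH := by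
    obtain ⟨v1, -, b1⟩ := hx1q
    obtain ⟨v2, -, b2⟩ := hx2q
    refine bar_eq_one.1 ?_
    rw [map_mul, map_mul, map_mul, map_inv, map_inv, b1, b2, eb_comm le_rfl v1 v2]
    group
  obtain ⟨K, hK⟩ : ∃ K, K = g1 * g2 * g1⁻¹ * g2⁻¹ := ⟨_, rfl⟩
  have e0 : h * g1 * h⁻¹ * (h * g2 * h⁻¹) * (h * g1 * h⁻¹)⁻¹ * (h * g2 * h⁻¹)⁻¹ = h * K * h⁻¹ := by
    rw [hK]; group
  rw [e0] at hcom
  have hK1 : h * K * h⁻¹ = 1 ∨ h * K * h⁻¹ = N.z := by
    rcases hq with e | e <;> rw [e] at hcom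
    · rcases T.unique _ _ _ (one_mem Γ) hcom with r | r
      · exact .inl r
      · exact .inr (by rw [r]; exact one_mul _)
    · have hzm : (zH, N.z) ∈ Γ := hz ▸ T.qs ⟨zH, zH_mem⟩
      rcases T.unique _ _ _ hzm hcom with r | r
      · exact .inr r
      · exact .inl (by rw [r, N.zz])
  obtain ⟨qK, hqK⟩ : ∃ qK : ↥ThOut.Qs, E.θ qK = K := by
    rcases hK1 with e | e
    · exact ⟨1, by rw [map_one]; calc (1 : G) = h⁻¹ * (h * K * h⁻¹) * h := by rw [e]; group
                                     _ = K := by group⟩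
    · refine ⟨⟨_, hcQ⟩, ?_⟩
      calc c = h⁻¹ * (h * c * h⁻¹) * h := by group
        _ = h⁻¹ * (h * K * h⁻¹) * h := by rw [h2, e]
        _ = K := by group
  have hm' := mul_mem (mul_mem (mul_mem hg1 hg2) (inv_mem hg1)) (inv_mem hg2)
  simp only [Prod.inv_mk, Prod.mk_mul_mk] at hm'
  rw [← hK, ← hqK] at hm'
  have hpi := (piA_eq_one hC).2 (left_mem_qs hC T hm')
  rw [map_mul, map_mul, map_mul, map_inv, map_inv, mul_inv_eq_one, mul_inv_eq_iff_eq_mul, hv, map_mul,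
    map_mul, map_inv] at hpi
  have := congrArg Subtype.val hpi
  simp only [Subgroup.coe_mul, Subgroup.coe_inv, piA_letter (g := 14) (by decide),
    piA_letter (g := 10) (by decide)] at this
  exact perms_ne this

end CfsgLib.ThType.Psi
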