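import Cfsg.Agent.Lib.ThType.Psi.Codes

/-!
# The centralisers of t and of s in the centraliser of c in the model
-/

set_option autoImplicit false
set_option maxRecDepth 100000

namespace CfsgLib.ThType.Psi

open CfsgLib.ThOut CfsgLib.ThType.Local Equiv

attribute [local irreducible] qW conjT blocks sameM

/-- The words. -/
def six : List (List ℕ) := [[], [8], [12], [12, 8], [12, 12], [12, 12, 8]]

/-- The codes. -/
def codesF : List ℕ := [0, 1, 2, 3, 12, 13, 14, 15, 404, 405, 406, 407, 408, 409, 410, 411]

theorem six_perm : ((List.range 54).all fun i => !(Local.imgW (wT.getD i []) 1 == 1) ||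
    six.any fun w => permV w == permV (wT.getD i [])) = true := by
  decide +kernel

theorem six_gL : ∀ w ∈ six, ∀ g ∈ w, g ∈ gL := by decide

theorem qs_tc : ((List.range 256).all fun v => !(Local.imgW [12] v == v) || !(pc v 8 1 % 2 == 0) ||
    (codesF.contains (2 * v) && codesF.contains (2 * v + 1))) = true := by
  decide +kernel

theorem qs_sc : ((List.range 256).all fun v => !(Local.imgW [10] v == v) || !(pc v 8 1 % 2 == 0) ||
    decide (v < 2)) = true := by
  decide +kernel

variable [IsSimpleGroup Cfsg.Spor.Th]

theorem six_comm : ∀ w ∈ six, hev w * hel 12 = hel 12 * hev w ∧ hev w * hev [4] = hev [4] * hev w := by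
  have e8 : hev [8, 12] = hev [12, 8] := hev_eq (by decide) (by decide) (by decide +kernel)
  have c8 : hev [8, 4] = hev [4, 8] := hev_eq (by decide) (by decide) (by decide +kernel)
  have c12 : hev [12, 4] = hev [4, 12] := hev_eq (by decide) (by decide) (by decide +kernel)
  simp only [hev_cons, hev_nil, mul_one] at e8 c8 c12
  intro w hw
  have h1 : Commute (hel 8) (hel 12) := e8
  have h2 : Commute (hel 12) (hel 12) := Commute.refl _
  have h3 : Commute (hel 8) (hel 4) := c8
  have h4 : Commute (hel 12) (hel 4) := c12
  simp only [six, List.mem_cons, List.not_mem_nil, or_false] at hw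
  rcases hw with rfl | rfl | rfl | rfl | rfl | rfl <;> simp only [hev_cons, hev_nil, mul_one] <;>
    refine ⟨?_, ?_⟩
  all_goals first
    | exact h1.eq | exact h2.eq | exact h3.eq | exact h4.eq
    | exact (Commute.one_left _).eq
    | exact (h2.mul_left h1).eq | exact (h4.mul_left h3).eq
    | exact (h2.mul_left h2).eq | exact (h4.mul_left h4).eq
    | exact (h2.mul_left (h2.mul_left h1)).eq | exact (h4.mul_left (h4.mul_left h3)).eq | trivial

variable [Finite Cfsg.Spor.Th]
variable (hC : Nat.card (Subgroup.centralizer ({el 0} : Set Cfsg.Spor.Th)) ≤ 92897280)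
include hC

/-- The centraliser of t and c. -/
theorem fixed_tc {x : Hs} (ht : x * hel 12 = hel 12 * x) (hc : x * hev [4] = hev [4] * x) :
    ∃ w ∈ six, ∃ j ∈ codesF, x = hev (qe j) * hev w := by
  obtain ⟨f1, -, -, -, -, -, f7, -⟩ := t_fix
  set σ := pi x with hσ
  have ct := commute_pi (x := x) (g := 12) (by decide) ht
  have hlow : ∀ i : Fin 9, i.val < 3 → (σ i).val < 3 := fun i hi =>
    (f1 _).1 (by rw [← ct, (f1 i).2 hi])
  have hhigh : ∀ i : Fin 9, ¬ i.val < 3 → ¬ (σ i).val < 3 := fun i hi h =>
    hi ((f1 i).1 (σ.injective (by rw [ct, (f1 _).2 h])))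
  have hval : ∀ i : Fin 9, (permV [12]).getD i.val 9 = (permE 12 i).val := by
    intro i
    rw [permV, List.getD_eq_getElem _ _ (by simp)]
    simp
  have hcand : (List.finRange 9).map (fun i => ((σ i : Fin 9) : ℕ)) =
      candT (σ 0).val (σ 1).val (σ 2).val (σ 3).val (σ 4).val := by
    have ct' : ∀ i, permE 12 (σ i) = σ (permE 12 i) := fun i => (ct i).symm
    simp only [candT, hval, ct']
    rw [show List.finRange 9 = [0, 1, 2, 3, 4, 5, 6, 7, 8] from rfl]
    simp only [List.map_cons, List.map_nil,
      show permE 12 8 = 5 by decide +kernel, show permE 12 7 = 6 by decide +kernel,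
      show permE 12 3 = 7 by decide +kernel, show permE 12 4 = 8 by decide +kernel]
  have hnd : (candT (σ 0).val (σ 1).val (σ 2).val (σ 3).val (σ 4).val).Nodup := by
    rw [← hcand]
    exact (List.nodup_finRange 9).map fun i j e => σ.injective (Fin.ext e)
  have h9 := candT_ok
  simp only [List.all_eq_true, List.mem_range, List.mem_range'_1] at h9
  have h := h9 _ (hlow 0 (by decide)) _ (hlow 1 (by decide)) _ (hlow 2 (by decide)) (σ 3).val
    ⟨by have := hhigh 3 (by decide); omega, by omega⟩ (σ 4).val
    ⟨by have := hhigh 4 (by decide); omega, by omega⟩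
  simp only [Bool.or_eq_true, Bool.not_eq_true', decide_eq_false_iff_not, List.contains_iff_mem,
    or_assoc] at h
  obtain ⟨i, hi, ep⟩ : ∃ i, i < 54 ∧ σ = ((wT.getD i []).map permE).prod := by
    rcases h with h | h | h
    · exact absurd hnd h
    · obtain ⟨i, hi, e⟩ := List.getElem_of_mem h
      have hi' : i < wT.length := by rw [← List.length_map (f := permV), data_ok.2.2.1]; exact hi
      refine ⟨i, hi, eq_of_permV ?_⟩
      simp only [← data_ok.2.2.1, List.getElem_map] at e
      rw [hcand, ← e, List.getD_eq_getElem _ _ hi']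
    · exfalso
      obtain ⟨i, hi, e⟩ := List.getElem_of_mem h
      simp only [← data_ok.2.2.1, List.getElem_map] at e
      have hi' : i < wT.length := by rw [← List.length_map (f := permV), data_ok.2.2.1]; exact hi
      have hmul : σ * swap 0 1 = ((wT[i]'hi').map permE).prod := by
        refine eq_of_permV (e ▸ ?_)
        simp only [candT] at hcand ⊢
        rw [show List.finRange 9 = [0, 1, 2, 3, 4, 5, 6, 7, 8] from rfl] at hcand ⊢
        simp only [List.map_cons, List.map_nil, List.cons.injEq] at hcand ⊢
        simp [swap_apply_def, hcand]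
      have hev' : ((wT[i]'hi').map permE).prod ∈ alternatingGroup (Fin 9) := by
        rw [← pi_hev]
        · exact pi_mem _
        · have := data_ok.1
          simp only [List.all_eq_true, List.contains_iff_mem, List.mem_append] at this
          exact this _ (Or.inl (Or.inr (List.getElem_mem hi')))
      rw [← hmul, Perm.mem_alternatingGroup, map_mul, Perm.mem_alternatingGroup.1 (pi_mem x), f7]
        at hev'
      exact absurd hev' (by decide)
  have hw : ∀ g ∈ wT.getD i [], g ∈ gL := by
    have := data_ok.1
    simp only [List.all_eq_true, List.contains_iff_mem, List.mem_append] at this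
    intro g hg
    rcases Nat.lt_or_ge i wT.length with hlt | hge
    · rw [List.getD_eq_getElem _ _ hlt] at hg
      exact this _ (Or.inl (Or.inr (List.getElem_mem hlt))) g hg
    · rw [List.getD_eq_default _ _ hge] at hg; simp at hg
  have hq := split_word hC (x := x) hw ep
  have hfix1 : Local.imgW (wT.getD i []) 1 = 1 :=
    img_fixed hw hc (by norm_num) eb_one.symm hq (mul_inv_cancel_left _ _).symm
  have h6 := List.all_eq_true.1 six_perm i (List.mem_range.2 hi)
  simp only [hfix1, beq_self_eq_true, Bool.not_true, Bool.false_or, List.any_eq_true, beq_iff_eq] at h6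
  obtain ⟨w, hw6, hwe⟩ := h6
  obtain ⟨w1, w2⟩ := six_comm w hw6
  have hpw : pi (hev w) = σ := by
    rw [pi_hev (six_gL w hw6), ep]
    exact eq_of_permV hwe
  have hpi : pi (x * (hev w)⁻¹) = 1 := by rw [map_mul, map_inv, hpw, ← hσ, mul_inv_cancel]
  obtain ⟨v, hv, hb⟩ := mem_qs_of_pi hC hpi
  have c1 : (x * (hev w)⁻¹) * hel 12 = hel 12 * (x * (hev w)⁻¹) :=
    (Commute.mul_left (show Commute x (hel 12) from ht) (show Commute (hev w) (hel 12) from w1).inv_left).eq
  have c2 : (x * (hev w)⁻¹) * hev [4] = hev [4] * (x * (hev w)⁻¹) :=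
    (Commute.mul_left (show Commute x (hev [4]) from hc) (show Commute (hev w) (hev [4]) from w2).inv_left).eq
  have h12 := qs_fixed hC hv hb (g := 12) (by decide) c1
  have hperp : pc v 8 1 % 2 = 0 := perp c2 hb eb_one.symm
  have hp := List.all_eq_true.1 qs_tc v (List.mem_range.2 hv)
  simp only [h12, hperp, beq_self_eq_true, Bool.not_true, Bool.false_or, Bool.and_eq_true,
    List.contains_iff_mem] at hp
  rcases code_split hb with e | e
  · exact ⟨w, hw6, _, hp.1, by rw [← e, inv_mul_cancel_right]⟩
  · exact ⟨w, hw6, _, hp.2, by rw [← e, inv_mul_cancel_right]⟩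

theorem fixed_sc_two {x : Hs} (hs : x * hel 10 = hel 10 * x) (hc : x * hev [4] = hev [4] * x)
    (h2 : pi x 2 = 2) : ∃ j < 4, x = hev (qe j) := by
  obtain ⟨f1, f2, f3, f4, f5, f6, f7, -⟩ := t_fix
  set σ := pi x with hσ
  have cs := commute_pi (x := x) (g := 10) (by decide) hs
  have hpow : ∀ (k : ℕ), σ ((permE 10 ^ k) 2) = (permE 10 ^ k) 2 := by
    intro k
    induction k with
    | zero => simpa using h2
    | succ k ih => rw [pow_succ', Perm.mul_apply, cs, ih]
  have hfix : ∀ j : Fin 9, 2 ≤ j.val → σ j = j := by
    intro j hj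
    rcases f3 j with h | ⟨k, rfl⟩
    · omega
    · exact hpow k
  have hlow : ∀ j : Fin 9, j.val < 2 → (σ j).val < 2 := by
    intro j hj
    by_contra h
    have := σ.injective (hfix (σ j) (by omega))
    omega
  have hσ1 : σ = 1 := by
    have hcases : σ = 1 ∨ σ = swap 0 1 := by
      rcases Nat.lt_or_ge (σ 0).val 1 with h | h
      · left
        ext j
        by_cases hj : 2 ≤ j.val
        · rw [hfix j hj]; rfl
        · have h0 : σ 0 = 0 := Fin.ext (by show (σ 0).val = 0; omega)
          have h1 : σ 1 = 1 := by
            have := hlow 1 (by decide)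
            have hne : σ 1 ≠ σ 0 := fun e => absurd (σ.injective e) (by decide)
            refine Fin.ext ?_
            rw [h0, ← Fin.val_ne_iff] at hne
            simp at hne ⊢; omega
          interval_cases hjv : j.val
          · rw [show j = 0 from Fin.ext hjv, h0]; rfl
          · rw [show j = 1 from Fin.ext hjv, h1]; rfl
      · right
        have h0 : σ 0 = 1 := Fin.ext (by have := hlow 0 (by decide); simp at this ⊢; omega)
        have h1 : σ 1 = 0 := by
          have := hlow 1 (by decide)
          have hne : σ 1 ≠ σ 0 := fun e => absurd (σ.injective e) (by decide)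
          refine Fin.ext ?_
          rw [h0, ← Fin.val_ne_iff] at hne
          simp at hne ⊢; omega
        refine Equiv.ext fun j => ?_
        by_cases hj : 2 ≤ j.val
        · rw [hfix j hj, swap_apply_of_ne_of_ne] <;> intro e <;> rw [e] at hj <;> simp at hj
        · interval_cases hjv : j.val
          · rw [show j = 0 from Fin.ext hjv, h0, swap_apply_left]
          · rw [show j = 1 from Fin.ext hjv, h1, swap_apply_right]
    refine hcases.resolve_right fun e => ?_
    have := Perm.mem_alternatingGroup.1 (pi_mem x)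
    rw [← hσ, e, f7] at this
    exact absurd this (by decide)
  obtain ⟨v, hv, hb⟩ := mem_qs_of_pi hC (x := x) hσ1
  have h10 := qs_fixed hC hv hb (g := 10) (by decide) hs
  have hperp : pc v 8 1 % 2 = 0 := perp hc hb eb_one.symm
  have hp := List.all_eq_true.1 qs_sc v (List.mem_range.2 hv)
  simp only [h10, hperp, beq_self_eq_true, Bool.not_true, Bool.false_or, decide_eq_true_eq] at hp
  rcases code_split hb with e | e
  exacts [⟨2 * v, by omega, e⟩, ⟨2 * v + 1, by omega, e⟩]

/-- The centraliser of s and c. -/
theorem fixed_sc {x : Hs} (hs : x * hel 10 = hel 10 * x) (hc : x * hev [4] = hev [4] * x) :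
    ∃ k : ℕ, ∃ j < 4, x = hel 10 ^ k * hev (qe j) := by
  have key : ∀ i : Fin 9, permE 10 i ≠ i → ∃ k : Fin 7, (permE 10 ^ (k : ℕ)) 2 = i := by
    decide +kernel
  have cs := commute_pi (x := x) (g := 10) (by decide) hs
  obtain ⟨k, hk⟩ := key (pi x 2) fun h => by
    rw [← cs] at h
    exact (by decide +kernel : permE 10 2 ≠ 2) ((pi x).injective h)
  have c10 : Commute (hel 10) (hev [4]) := by
    have := hev_eq (u := [10, 4]) (v := [4, 10]) (by decide) (by decide) (by decide +kernel)
    show _ * _ = _ * _
    simpa [hev] using this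
  have c10' : Commute (hel 10) (hev [4]) := c10
  obtain ⟨j, hj, e⟩ := fixed_sc_two hC (x := (hel 10 ^ (k : ℕ))⁻¹ * x)
    ((((Commute.refl (hel 10)).pow_left _).inv_left.mul_left (show Commute x (hel 10) from hs)).eq)
    (((c10'.pow_left _).inv_left.mul_left (show Commute x (hev [4]) from hc)).eq) (by
      rw [map_mul, map_inv, map_pow, pi_eq (rep_hel (by decide)), Perm.mul_apply, ← hk]
      exact Equiv.symm_apply_apply _ _)
  exact ⟨k, j, hj, by rw [← e, mul_inv_cancel_left]⟩

end CfsgLib.ThType.Psi
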