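import Cfsg.Agent.Lib.ThType.Local.Model

/-!
# Arithmetic of the codes of the model

A product of elements of Qs, each followed by a word, is the product of one element of Qs and one word; the code
of the former is computed from the conjugation table.
-/

set_option autoImplicit false
set_option maxRecDepth 100000

namespace CfsgLib.ThType.Psi

open CfsgLib.ThOut

attribute [local irreducible] qW conjT blocks sameM

/-- The number of the sign changes in a product of two selections. -/
def mz : ℕ → ℕ → ℕ → ℕ
  | 0, _, _ => 0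
  | n + 1, v, w => mz n v w + if v.testBit n then cnt n n w else 0

/-- The code of a product of two codes. -/
def mulC (i j : ℕ) : ℕ := 2 * (i / 2 ^^^ j / 2) + (i + j + mz 8 (i / 2) (j / 2)) % 2

/-- The code of the conjugate by a letter of the selection of the first factors. -/
def actN (r : ℕ) : ℕ → ℕ → ℕ
  | 0, _ => 0
  | n + 1, v => if v.testBit n then mulC (actN r n v) (conjC r n) else actN r n v

/-- The code of the conjugate of a code by a letter. -/
def actG (r j : ℕ) : ℕ := mulC (actN r 8 (j / 2)) (j % 2)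

/-- The code of the conjugate of a code by a word. -/
def actW : List ℕ → ℕ → ℕ
  | [], j => j
  | g :: w, j => actG (gL.idxOf g) (actW w j)

/-- A product of codes and words, as one code and one word. -/
def evT : List (ℕ × List ℕ) → ℕ × List ℕ
  | [] => (0, [])
  | p :: T => (mulC p.1 (actW p.2 (evT T).1), p.2 ++ (evT T).2)

variable [IsSimpleGroup Cfsg.Spor.Th]

/-- The value of such a product. -/
noncomputable def valT (T : List (ℕ × List ℕ)) : Hs := (T.map fun p => hev (qe p.1) * hev p.2).prod

theorem zH_two : (zH : Hs) ^ 2 = 1 := by rw [pow_two, zH_sq]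

theorem zH_mod (k : ℕ) : (zH : Hs) ^ (k % 2) = zH ^ k := by
  conv_rhs => rw [← Nat.mod_add_div k 2, pow_add, pow_mul, zH_two, one_pow, mul_one]

theorem qe_val (j : ℕ) : hev (qe j) = hev (selW 8 (j / 2)) * zH ^ (j % 2) := by
  rw [qe, hev_append, Nat.testBit_zero]
  congr 1
  rcases Nat.mod_two_eq_zero_or_one j with e | e <;> simp [e, hev, zH]

theorem cnt_high : ∀ {n m : ℕ}, n ≤ m → ∀ w, cnt m n w = cnt n n w
  | 0, _, _, _ => rfl
  | k + 1, m, h, w => by
    have key : ∀ {i : ℕ}, k + 1 ≤ i → ∀ {l : ℕ}, l ≤ k + 1 → cnt i l w = cnt (k + 1) l w := by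
      intro i hi l
      induction l with
      | zero => intro _; rfl
      | succ l ih =>
        intro hl
        rw [cnt, cnt, ih (by omega)]
        have a : Nat.beq i l = false := Bool.eq_false_iff.2 fun e => by
          have := Nat.eq_of_beq_eq_true e; omega
        have b : Nat.beq (k + 1) l = false := Bool.eq_false_iff.2 fun e => by
          have := Nat.eq_of_beq_eq_true e; omega
        rw [a, b]
    exact key h le_rfl

theorem sel_mul : ∀ {n : ℕ}, n ≤ 8 → ∀ v w,
    hev (selW n v) * hev (selW n w) = hev (selW n (v ^^^ w)) * zH ^ mz n v w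
  | 0, _, v, w => by simp [selW, mz, hev_nil]
  | n + 1, h, v, w => by
    have hz : ∀ (k : ℕ) (x : Hs), zH ^ k * x = x * zH ^ k :=
      fun k x => (Commute.pow_left (zH_comm x) k).eq
    have hc := sel_comm (i := n) (by omega) (by omega : n ≤ 8) w
    rw [selW, selW, selW, hev_append, hev_append, hev_append, Nat.testBit_xor, mz, pow_add]
    have ih := sel_mul (by omega : n ≤ 8) v w
    cases hv : v.testBit n
    · cases hw : w.testBit n
      · simpa [hev_nil] using ih
      · simp only [Bool.false_xor, Bool.false_eq_true, ↓reduceIte, hev_nil, mul_one, pow_zero]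
        rw [← mul_assoc, ih, mul_assoc, hz, ← mul_assoc]
    · cases hw : w.testBit n
      · simp only [Bool.xor_false, Bool.false_eq_true, ↓reduceIte, hev_nil, mul_one]
        simp only [mul_assoc, hc]
        simp only [← mul_assoc, ih]
        simp only [mul_assoc]
        rw [← mul_assoc (zH ^ mz n v w), hz]
        simp only [mul_assoc]
      · simp only [Bool.xor_self, Bool.false_eq_true, ↓reduceIte, hev_nil, mul_one]
        have hs := qq_sq (i := n) (by omega)
        calc hev (selW n v) * hev (qw n) * (hev (selW n w) * hev (qw n))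
            = hev (selW n v) * (hev (qw n) * hev (selW n w)) * hev (qw n) := by
              simp only [mul_assoc]
          _ = hev (selW n v) * (hev (selW n w) * hev (qw n) * zH ^ cnt n n w) * hev (qw n) := by rw [hc]
          _ = hev (selW n v) * hev (selW n w) * ((hev (qw n) * hev (qw n)) * zH ^ cnt n n w) := by
              simp only [mul_assoc, hz]
          _ = _ := by rw [ih, hs, one_mul, mul_assoc]

theorem mulC_eq (i j : ℕ) : hev (qe i) * hev (qe j) = hev (qe (mulC i j)) := by
  have hz : ∀ (k : ℕ) (x : Hs), zH ^ k * x = x * zH ^ k :=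
    fun k x => (Commute.pow_left (zH_comm x) k).eq
  have e1 : mulC i j / 2 = i / 2 ^^^ j / 2 := by unfold mulC; omega
  have e2 : mulC i j % 2 = (i + j + mz 8 (i / 2) (j / 2)) % 2 := by unfold mulC; omega
  rw [qe_val i, qe_val j, qe_val (mulC i j), e1, e2, zH_mod, zH_mod, zH_mod, mul_assoc,
    ← mul_assoc (zH ^ i), hz, mul_assoc, ← mul_assoc (hev (selW 8 (i / 2))), sel_mul le_rfl,
    mul_assoc, ← pow_add, ← pow_add]
  congr 2
  omega

theorem qe_zero : hev (qe 0) = 1 := by
  rw [qe_val, Nat.zero_div]
  have : ∀ n : ℕ, selW n 0 = [] := fun n => by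
    induction n with
    | zero => rfl
    | succ n ih => simp [selW, ih]
  simp [this, hev_nil]

theorem conj_code {r i : ℕ} (hr : r < 7) (hi : i < 8) :
    hel (gL.getD r 0) * hev (qw i) = hev (qe (conjC r i)) * hel (gL.getD r 0) := by
  have hg : okW [gL.getD r 0] = true := by
    simp only [okW, List.all_cons, List.all_nil, Bool.and_true, List.contains_iff_mem]
    interval_cases r <;> decide
  have h1 : okW (gL.getD r 0 :: qw i) = true := okW_append (u := [gL.getD r 0]).2 ⟨hg, okW_qw i hi⟩
  have := hev_eq h1 (okW_append.2 ⟨okW_qe _, hg⟩) (conj_ok hr hi)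
  rwa [hev_cons, hev_append, show hev [gL.getD r 0] = hel (gL.getD r 0) by simp [hev]] at this

theorem actN_eq {r : ℕ} (hr : r < 7) : ∀ {n : ℕ}, n ≤ 8 → ∀ v,
    hel (gL.getD r 0) * hev (selW n v) = hev (qe (actN r n v)) * hel (gL.getD r 0)
  | 0, _, v => by simp [selW, actN, hev_nil, qe_zero]
  | n + 1, h, v => by
    rw [selW, hev_append, ← mul_assoc, actN_eq hr (by omega) v, actN]
    cases v.testBit n
    · simp [hev_nil]
    · simp only [↓reduceIte]
      rw [mul_assoc, conj_code hr (by omega), ← mul_assoc, mulC_eq]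

theorem actG_eq {g : ℕ} (hg : g ∈ gL) (j : ℕ) :
    hel g * hev (qe j) = hev (qe (actG (gL.idxOf g) j)) * hel g := by
  have hi := List.idxOf_lt_length_iff.2 hg
  have e : gL.getD (gL.idxOf g) 0 = g := by
    rw [List.getD_eq_getElem _ _ hi, List.getElem_idxOf]
  have hr : gL.idxOf g < 7 := hi
  have h := actN_eq hr le_rfl (j / 2)
  rw [e] at h
  have hq : ∀ k < 2, hev (qe k) = zH ^ k := by
    intro k hk
    rw [qe_val, Nat.div_eq_of_lt hk, Nat.mod_eq_of_lt hk]
    have := qe_zero
    rw [qe_val, Nat.zero_div] at this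
    simp at this
    rw [this, one_mul]
  rw [actG, ← mulC_eq, hq _ (Nat.mod_lt _ two_pos), qe_val j, ← mul_assoc, h, mul_assoc, mul_assoc,
    (Commute.pow_left (zH_comm (hel g)) (j % 2)).eq]

theorem actW_eq : ∀ {w : List ℕ}, (∀ g ∈ w, g ∈ gL) → ∀ j,
    hev w * hev (qe j) = hev (qe (actW w j)) * hev w
  | [], _, j => by simp [actW, hev_nil]
  | g :: w, h, j => by
    rw [hev_cons, mul_assoc, actW_eq (fun a ha => h a (List.mem_cons_of_mem _ ha)) j, ← mul_assoc,
      actG_eq (h g List.mem_cons_self), mul_assoc]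
    rfl

theorem evT_eq : ∀ {T : List (ℕ × List ℕ)}, (∀ p ∈ T, ∀ g ∈ p.2, g ∈ gL) →
    valT T = hev (qe (evT T).1) * hev (evT T).2 ∧ ∀ g ∈ (evT T).2, g ∈ gL
  | [], _ => ⟨by simp [valT, evT, qe_zero, hev_nil], by simp [evT]⟩
  | p :: T, h => by
    obtain ⟨e, hw⟩ := evT_eq (T := T) fun q hq => h q (List.mem_cons_of_mem _ hq)
    have hp := h p List.mem_cons_self
    refine ⟨?_, fun g hg => ?_⟩
    · have : valT (p :: T) = hev (qe p.1) * hev p.2 * valT T := by simp [valT]
      rw [this, e, evT, hev_append, ← mulC_eq]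
      simp only [mul_assoc]
      rw [← mul_assoc (hev p.2), actW_eq hp, mul_assoc]
    · simp only [evT, List.mem_append] at hg
      exact hg.elim (hp g) (hw g)

theorem qe_inj {i j : ℕ} (hi : i < 512) (hj : j < 512) (h : hev (qe i) = hev (qe j)) : i = j := by
  have hb := congrArg bar h
  rw [bar_qe, bar_qe] at hb
  have he := eb_inj (by omega) (by omega) hb
  rw [qe_val, qe_val, he] at h
  have h2 := mul_left_cancel h
  have : i % 2 = j % 2 := by
    rcases Nat.mod_two_eq_zero_or_one i with a | a <;>
      rcases Nat.mod_two_eq_zero_or_one j with b | b <;> rw [a, b] at h2 ⊢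
    · exact absurd h2.symm (by simpa using zH_ne)
    · exact absurd h2 (by simpa using zH_ne)
  omega

end CfsgLib.ThType.Psi
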