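import Cfsg.Agent.Lib.ThType.Psi.Normal
import Cfsg.Agent.Lib.ThType.Local.Hyp

/-!
# The element of order three normalised relative to the copy of the model
-/

set_option autoImplicit false
set_option maxRecDepth 100000
set_option linter.unusedSectionVars false

namespace CfsgLib.ThType.Psi

open CfsgLib.ThOut CfsgLib.ThType.Local Subgroup

attribute [local irreducible] qW conjT blocks sameM

variable [IsSimpleGroup Cfsg.Spor.Th] [Finite Cfsg.Spor.Th]

/-- The value of one factor. -/
noncomputable abbrev val (p : ℕ × List ℕ) : ThOut.Hs := hev (qe p.1) * hev p.2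

theorem sW_val (n : ℕ) : hev (sW n) = hel 10 ^ n := by
  rw [← pow_mod_orderOf (hel 10) n, s_order]
  unfold sW
  induction n % 7 with
  | zero => simp [hev_nil]
  | succ i ih => rw [List.replicate_succ, hev_cons, ih, pow_succ']

theorem six_pair {w : List ℕ} {j : ℕ} (hw : w ∈ six) {p : ℕ × List ℕ} (hp : p = (j, w)) :
    ∀ g ∈ p.2, g ∈ gL := hp ▸ six_gL w hw

theorem relE_gL {m : ℕ} {p : ℕ × List ℕ} (hp : ∀ g ∈ p.2, g ∈ gL) :
    ∀ T ∈ relE m p, ∀ q ∈ T, ∀ g ∈ q.2, g ∈ gL := by
  intro T hT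
  simp only [relE, List.mem_cons, List.not_mem_nil, or_false] at hT
  have hs : ∀ n, ∀ g ∈ sW n, g ∈ gL := fun n g hg => by
    rw [List.eq_of_mem_replicate hg]; decide
  rcases hT with rfl | rfl <;> intro q hq <;> simp only [List.mem_cons, List.not_mem_nil, or_false] at hq <;>
    rcases hq with rfl | rfl | rfl | rfl | rfl | rfl <;> first | exact hp | exact hs _

theorem relU_gL {m : ℕ} {x v : ℕ × List ℕ} (hx : ∀ g ∈ x.2, g ∈ gL) (hv : ∀ g ∈ v.2, g ∈ gL) :
    ∀ T ∈ relU m x v ++ [relR v], ∀ q ∈ T, ∀ g ∈ q.2, g ∈ gL := by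
  intro T hT
  simp only [relU, relR, List.cons_append, List.nil_append, List.mem_cons, List.not_mem_nil, or_false] at hT
  have hs : ∀ n, ∀ g ∈ sW n, g ∈ gL := fun n g hg => by
    rw [List.eq_of_mem_replicate hg]; decide
  have h0 : ∀ g ∈ [0], g ∈ gL := by decide
  have h4 : ∀ g ∈ [4], g ∈ gL := by decide
  have hn : ∀ g ∈ ([] : List ℕ), g ∈ gL := by simp
  have hsa : ∀ n, ∀ g ∈ sW n ++ [0], g ∈ gL := fun n g hg =>
    (List.mem_append.1 hg).elim (hs n g) (h0 g)
  rcases hT with rfl | rfl | rfl | rfl <;> intro q hq <;>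
    simp only [List.mem_cons, List.not_mem_nil, or_false] at hq <;>
    rcases hq with rfl | rfl | rfl | rfl | rfl | rfl <;>
    first | exact hx | exact hv | exact hs _ | exact hsa _ | exact h0 | exact h4 | exact hn

theorem valE (m : ℕ) (p : ℕ × List ℕ) :
    (valT [p, p] = val p * val p) ∧
    valT [p, (0, sW (6 * m)), p, (0, sW (5 * m)), p, (0, sW (3 * m))] =
      val p * (hel 10 ^ m) ^ 6 * val p * (hel 10 ^ m) ^ 5 * val p * (hel 10 ^ m) ^ 3 := by
  constructor
  · simp [valT]
  · simp only [valT, List.map_cons, List.map_nil, List.prod_cons, List.prod_nil, mul_one, qe_zero,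
      one_mul, sW_val, ← pow_mul, mul_comm m, mul_assoc]

theorem h_zero : hev [0] = zH := by simp [hev, zH]

theorem valU (m : ℕ) (x v : ℕ × List ℕ) :
    valT [v, v, (0, [0])] = val v * val v * zH ∧
    valT [v, x, v, (0, [0]), x] = val v * val x * val v * zH * val x ∧
    valT [v, (0, sW m), v, (0, sW m), v, (0, sW m ++ [0])] =
      val v * hel 10 ^ m * val v * hel 10 ^ m * val v * hel 10 ^ m * zH ∧
    valT (relR v) = cH * val v * hev (qe 409) * val v * hev (qe 409) := by
  refine ⟨?_, ?_, ?_, ?_⟩ <;>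
    simp only [relR, valT, List.map_cons, List.map_nil, List.prod_cons, List.prod_nil, mul_one, qe_zero,
      one_mul, sW_val, hev_append, h_zero, hev_nil, cH, mul_assoc]

/-- The fixed element. -/
noncomputable abbrev rH : ThOut.Hs := hev (qe 409)

theorem r_word : rH = hev [4, 6, 15, 6, 4, 6, 14, 6] :=
  (hev_eq (by decide) (okW_qe _) (by decide +kernel)).symm

theorem q_word : hev (qe 407) = hev [6, 4, 6, 15, 6, 4, 6, 14] :=
  (hev_eq (by decide) (okW_qe _) (by decide +kernel)).symm

theorem u_word : hev (qe 14) * hev [14] = hev [6, 8, 6, 4, 6, 4, 8, 6, 15] := by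
  rw [← hev_append]
  exact (hev_eq (by decide) (okW_append.2 ⟨okW_qe _, by decide⟩) (by decide +kernel)).symm

theorem relations :
    (val (0, [8]) * val (0, [8]) = 1 ∧
      val (0, [8]) * hel 10 ^ 6 * val (0, [8]) * hel 10 ^ 5 * val (0, [8]) * hel 10 ^ 3 = 1) ∧
    (rH * rH = 1 ∧ rH * (hel 10 ^ 6) ^ 6 * rH * (hel 10 ^ 6) ^ 5 * rH * (hel 10 ^ 6) ^ 3 = 1) ∧
    hel 14 * hel 14 * (cH * zH) = 1 ∧ hel 14 * hel 8 * hel 14 * (cH * zH) * hel 8 = 1 ∧
    hel 14 * hel 10 * hel 14 * hel 10 * hel 14 * hel 10 * (cH * zH) = 1 ∧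
    zH * hel 14 * rH * hel 14 * rH = 1 := by
  refine ⟨⟨?_, ?_⟩, ⟨?_, ?_⟩, ?_, ?_, ?_, ?_⟩
  · rw [val, qe_zero, one_mul, ← hev_append]
    exact (hev_eq (by decide) (by decide) (by decide +kernel)).trans hev_nil
  · rw [val, qe_zero, one_mul, ← sW_val 6, ← sW_val 5, ← sW_val 3, ← hev_append, ← hev_append,
      ← hev_append, ← hev_append, ← hev_append]
    exact (hev_eq (by decide) (by decide) (by decide +kernel)).trans hev_nil
  · rw [r_word, ← hev_append]
    exact (hev_eq (by decide) (by decide) (by decide +kernel)).trans hev_nil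
  · rw [r_word, ← pow_mul, ← pow_mul, ← pow_mul, ← sW_val, ← sW_val, ← sW_val, ← hev_append, ← hev_append,
      ← hev_append, ← hev_append, ← hev_append]
    exact (hev_eq (by decide) (by decide) (by decide +kernel)).trans hev_nil
  · have h := hev_eq (u := [14, 14, 4, 0]) (v := []) (by decide) (by decide) (by decide +kernel)
    simpa [hev, zH, mul_assoc] using h
  · have h := hev_eq (u := [14, 8, 14, 4, 0, 8]) (v := []) (by decide) (by decide) (by decide +kernel)
    simpa [hev, zH, mul_assoc] using h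
  · have h := hev_eq (u := [14, 10, 14, 10, 14, 10, 4, 0]) (v := []) (by decide) (by decide) (by decide +kernel)
    simpa [hev, zH, mul_assoc] using h
  · have h := hev_eq (u := [0, 14, 4, 6, 15, 6, 4, 6, 14, 6, 14, 4, 6, 15, 6, 4, 6, 14, 6]) (v := [])
      (by decide) (by decide) (by decide +kernel)
    rw [r_word]
    simpa [hev, zH, mul_assoc] using h

theorem comms : (Commute (hel 8) cH ∧ Commute (hel 8) (hel 12)) ∧ (Commute rH cH ∧ Commute rH (hel 12)) ∧
    Commute (hel 14) cH ∧ (hel 14)⁻¹ * hel 12 * hel 14 = (hel 12)⁻¹ := by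
  have c : ∀ u v : List ℕ, okW u = true → okW v = true → sameM (u ++ v) (v ++ u) = true →
      Commute (hev u) (hev v) := fun u v hu hv h => by
    show _ * _ = _ * _
    rw [← hev_append, ← hev_append]
    exact hev_eq (okW_append.2 ⟨hu, hv⟩) (okW_append.2 ⟨hv, hu⟩) h
  have h1 : ∀ g : ℕ, hev [g] = hel g := fun g => by simp [hev]
  refine ⟨⟨?_, ?_⟩, ⟨?_, ?_⟩, ?_, ?_⟩
  · rw [← h1 8]; exact c [8] [4] (by decide) (by decide) (by decide +kernel)
  · rw [← h1 8, ← h1 12]; exact c [8] [12] (by decide) (by decide) (by decide +kernel)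
  · rw [r_word]; exact c _ [4] (by decide) (by decide) (by decide +kernel)
  · rw [r_word, ← h1 12]; exact c _ [12] (by decide) (by decide) (by decide +kernel)
  · rw [← h1 14]; exact c [14] [4] (by decide) (by decide) (by decide +kernel)
  · have h := hev_eq (u := [12, 14, 12]) (v := [14]) (by decide) (by decide) (by decide +kernel)
    simp only [hev_cons, hev_nil, mul_one] at h
    rw [eq_inv_iff_mul_eq_one, mul_assoc, mul_assoc, h, inv_mul_cancel]

variable (hC : Nat.card (Subgroup.centralizer ({el 0} : Set Cfsg.Spor.Th)) ≤ 92897280)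
variable {G : Type*} [Group G] {θ : ThOut.Hs →* G} {g : G}

/-- The conjugation on the model, on products. -/
theorem Cyc.image_mul (S : Cyc θ g) {x y x' y' : ThOut.Hs} (h : θ x = g⁻¹ * θ x' * g)
    (h' : θ y = g⁻¹ * θ y' * g) : θ (x * y) = g⁻¹ * θ (x' * y') * g := by
  rw [map_mul, h, h', map_mul]; group

include hC

/-- The images of e, of the fixed element and of u. -/
theorem Cyc.exists_images (S : Cyc θ g) (ht : g⁻¹ * θ (hel 12) * g = θ (hel 12)) {m : ℕ}
    (hm : m ∈ [1, 6]) (hs : g⁻¹ * θ (hel 10) * g = θ (hel 10 ^ m)) :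
    m = 1 ∧ g⁻¹ * θ (hel 8) * g = θ (hev (qe 407)) ∧ g⁻¹ * θ rH * g = θ rH ∧
      g⁻¹ * θ (hel 14) * g = θ (hev (qe 14) * hev [14]) := by
  obtain ⟨⟨re1, re2⟩, ⟨rr1, rr2⟩, ru1, ru2, ru3, ru4⟩ := relations
  obtain ⟨⟨ec, et⟩, ⟨rc, rt⟩, uc, ut⟩ := comms
  have hone : ∀ {x : ThOut.Hs}, θ x = g⁻¹ * θ (1 : ThOut.Hs) * g → x = 1 := fun h =>
    S.inj (by rw [h, map_one]; group)
  have hback : ∀ {y : ThOut.Hs}, θ (1 : ThOut.Hs) = g⁻¹ * θ y * g → y = 1 := fun {y} h => by
    refine S.inj ?_
    calc θ y = g * (g⁻¹ * θ y * g) * g⁻¹ := by group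
      _ = θ 1 := by rw [← h, map_one]; group
  have hgen : ∀ {y : ThOut.Hs}, Commute y cH → Commute y (hel 12) →
      ∃ w ∈ six, ∃ j ∈ codesF, θ (val (j, w)) = g⁻¹ * θ y * g := by
    intro y hyc hyt
    obtain ⟨x, hx, hxc⟩ := S.pull hyc
    have hxt : x * hel 12 = hel 12 * x := S.inj (by
      rw [map_mul, map_mul, hx, ← ht]
      calc g⁻¹ * θ y * g * (g⁻¹ * θ (hel 12) * g) = g⁻¹ * (θ y * θ (hel 12)) * g := by group
        _ = g⁻¹ * (θ (hel 12) * θ y) * g := by rw [← map_mul, ← map_mul, hyt.eq]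
        _ = _ := by group)
    obtain ⟨w, hw, j, hj, e⟩ := fixed_tc hC hxt hxc.eq
    exact ⟨w, hw, j, hj, by rw [← hx, e]⟩
  have hsS : ∀ n, θ ((hel 10 ^ m) ^ n) = g⁻¹ * θ (hel 10 ^ n) * g := S.conj_pow hs.symm
  -- the image of e
  obtain ⟨we, hwe, je, hje, he⟩ := hgen ec et
  obtain ⟨wr, hwr, jr, hjr, hr⟩ := hgen rc rt
  have he0 : θ (val (je, we)) = g⁻¹ * θ (val (0, [8])) * g := by
    rw [he, show val (0, [8]) = hel 8 by rw [val, qe_zero, one_mul]; simp [hev]]
  have hE : (relE m (je, we)).any fails = false := by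
    rw [List.any_eq_false]
    intro T hT
    rw [Bool.not_eq_true]
    refine fails_sound (relE_gL (m := m) (six_gL we hwe) T hT) ?_
    obtain ⟨v1, v2⟩ := valE m (je, we)
    simp only [relE, List.mem_cons, List.not_mem_nil, or_false] at hT
    rcases hT with rfl | rfl
    · rw [v1]
      refine hone ?_
      rw [← re1]
      exact S.image_mul he0 he0
    · rw [v2]
      refine hone ?_
      rw [← re2]
      exact S.image_mul (S.image_mul (S.image_mul (S.image_mul (S.image_mul he0 (hsS 6)) he0) (hsS 5)) he0) (hsS 3)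
  have he_ne : (je, we) ≠ ((0 : ℕ), ([] : List ℕ)) := fun e => by
    injection e with e1 e2
    subst e1 e2
    rw [val, qe_zero, hev_nil, mul_one] at he
    have := congrArg ThOut.pi (hback he)
    rw [pi_eq (rep_hel (by decide)), map_one] at this
    exact (by decide +kernel : permE 8 ≠ 1) this
  -- the image of u
  obtain ⟨x, hx, hxc⟩ := S.pull uc
  have hxt : Commute (x * (hel 14)⁻¹) (hel 12) := by
    have h1 : x⁻¹ * hel 12 * x = (hel 12)⁻¹ := S.inj (by
      rw [map_mul, map_mul, map_inv, map_inv, hx, ← ht,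
        show (g⁻¹ * θ (hel 14) * g)⁻¹ * (g⁻¹ * θ (hel 12) * g) * (g⁻¹ * θ (hel 14) * g) =
          g⁻¹ * ((θ (hel 14))⁻¹ * θ (hel 12) * θ (hel 14)) * g by group,
        ← map_inv, ← map_mul, ← map_mul, ut, map_inv]
      group)
    show _ * _ = _ * _
    calc x * (hel 14)⁻¹ * hel 12 = x * ((hel 14)⁻¹ * hel 12 * hel 14) * (hel 14)⁻¹ := by group
      _ = x * (x⁻¹ * hel 12 * x) * (hel 14)⁻¹ := by rw [ut, h1]
      _ = _ := by group
  obtain ⟨wu, hwu, ju, hju, hu⟩ := fixed_tc hC hxt.eq ((hxc.mul_left uc.inv_left).eq)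
  have hv : θ (val (ju, wu ++ [14])) = g⁻¹ * θ (hel 14) * g := by
    rw [← hx, val, hev_append, ← mul_assoc, ← hu, show hev [14] = hel 14 by simp [hev], inv_mul_cancel_right]
  have hvg : ∀ g ∈ (ju, wu ++ [14]).2, g ∈ gL := fun a ha => by
    rcases List.mem_append.1 ha with h | h
    · exact six_gL wu hwu a h
    · rw [List.mem_singleton.1 h]; decide
  have hz : θ zH = g⁻¹ * θ (cH * zH) * g := S.ac.symm
  have hcz : θ cH = g⁻¹ * θ zH * g := S.conj_a.symm
  have hs1 : θ (hel 10 ^ m) = g⁻¹ * θ (hel 10) * g := hs.symm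
  have hU : ∀ T ∈ relU m (je, we) (ju, wu ++ [14]), fails T = false := by
    intro T hT
    refine fails_sound (relU_gL (m := m) (six_gL we hwe) hvg T (List.mem_append_left _ hT)) ?_
    obtain ⟨v1, v2, v3, -⟩ := valU m (je, we) (ju, wu ++ [14])
    simp only [relU, List.mem_cons, List.not_mem_nil, or_false] at hT
    rcases hT with rfl | rfl | rfl
    · rw [v1]
      refine hone ?_
      rw [← ru1]
      exact S.image_mul (S.image_mul hv hv) hz
    · rw [v2]
      refine hone ?_
      rw [← ru2]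
      exact S.image_mul (S.image_mul (S.image_mul (S.image_mul hv he) hv) hz) he
    · rw [v3]
      refine hone ?_
      rw [← ru3]
      exact S.image_mul (S.image_mul (S.image_mul (S.image_mul (S.image_mul (S.image_mul hv hs1) hv) hs1) hv) hs1) hz
  have hUn : ∀ p, (m, p) ∈ [((1 : ℕ), ((0 : ℕ), [8])), (1, (12, [8])), (6, (409, []))] → (je, we) ≠ p := by
    intro p hp e
    have h := List.all_eq_true.1 (List.all_eq_true.1 (List.all_eq_true.1 uSearch_none _ hp) wu hwu) ju hju
    obtain ⟨T, hT, hf⟩ := List.any_eq_true.1 h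
    rw [hU T (e ▸ hT)] at hf
    exact Bool.false_ne_true hf
  simp only [List.mem_cons, List.not_mem_nil, or_false] at hm
  rcases hm with rfl | rfl
  swap
  · exfalso
    have h := List.all_eq_true.1 (List.all_eq_true.1 eSearch_six we hwe) je hje
    rw [hE, Bool.false_or] at h
    simp only [List.contains_iff_mem, List.mem_cons, List.not_mem_nil, or_false] at h
    rcases h with h | h
    · exact he_ne h
    · exact hUn _ (by simp) h
  have hqe : (je, we) = ((407 : ℕ), ([] : List ℕ)) := by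
    have h := List.all_eq_true.1 (List.all_eq_true.1 eSearch_one we hwe) je hje
    rw [hE, Bool.false_or] at h
    simp only [List.contains_iff_mem, List.mem_cons, List.not_mem_nil, or_false] at h
    rcases h with h | h | h | h
    · exact absurd h he_ne
    · exact h
    · exact absurd h (hUn _ (by simp))
    · exact absurd h (hUn _ (by simp))
  -- the fixed element
  have hR : (relE 6 (jr, wr)).any fails = false := by
    rw [List.any_eq_false]
    intro T hT
    rw [Bool.not_eq_true]
    refine fails_sound (relE_gL (m := 6) (six_gL wr hwr) T hT) ?_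
    obtain ⟨v1, v2⟩ := valE 6 (jr, wr)
    simp only [relE, List.mem_cons, List.not_mem_nil, or_false] at hT
    have hsS' : ∀ n, θ ((hel 10 ^ 6) ^ n) = g⁻¹ * θ ((hel 10 ^ 6) ^ n) * g := fun n => by
      rw [← pow_mul]
      simpa using hsS (6 * n)
    rcases hT with rfl | rfl
    · rw [v1]
      refine hone ?_
      rw [← rr1]
      exact S.image_mul hr hr
    · rw [v2]
      refine hone ?_
      rw [← rr2]
      exact S.image_mul (S.image_mul (S.image_mul (S.image_mul (S.image_mul hr (hsS' 6)) hr) (hsS' 5)) hr)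
        (hsS' 3)
  have hre : (jr, wr) = ((409 : ℕ), ([] : List ℕ)) := by
    have h := List.all_eq_true.1 (List.all_eq_true.1 eSearch_six wr hwr) jr hjr
    rw [hR, Bool.false_or] at h
    simp only [List.contains_iff_mem, List.mem_cons, List.not_mem_nil, or_false] at h
    refine h.resolve_left fun e => ?_
    injection e with e1 e2
    subst e1 e2
    rw [val, qe_zero, hev_nil, mul_one] at hr
    exact absurd (qe_inj (by norm_num) (by norm_num) ((hback hr).trans qe_zero.symm)) (by norm_num)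
  have hve : val (je, we) = hev (qe 407) := by rw [hqe, val, hev_nil, mul_one]
  have hvr : val (jr, wr) = rH := by rw [hre, val, hev_nil, mul_one]
  rw [hvr] at hr
  have hRel : fails (relR (ju, wu ++ [14])) = false := by
    refine fails_sound (relU_gL (m := 1) (six_gL we hwe) hvg (relR (ju, wu ++ [14]))
      (List.mem_append_right (relU 1 (je, we) _) (List.mem_singleton_self _))) ?_
    rw [(valU 1 (je, we) (ju, wu ++ [14])).2.2.2]
    refine hone ?_
    rw [← ru4]
    exact S.image_mul (S.image_mul (S.image_mul (S.image_mul hcz hv) hr) hv) hr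
  have hju' : (ju, wu) = ((14 : ℕ), ([] : List ℕ)) := by
    have h := List.all_eq_true.1 (List.all_eq_true.1 uSearch_one wu hwu) ju hju
    have hf : (relU 1 (407, []) (ju, wu ++ [14]) ++ [relR (ju, wu ++ [14])]).any fails = false := by
      rw [List.any_eq_false]
      intro T hT
      rcases List.mem_append.1 hT with h' | h'
      · rw [hU T (hqe ▸ h')]; simp
      · rw [List.mem_singleton.1 h', hRel]; simp
    rw [hf, Bool.false_or, beq_iff_eq] at h
    exact h
  refine ⟨rfl, ?_, hr.symm, ?_⟩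
  · rw [← he, hve]
  · rw [← hv]
    injection hju' with e1 e2
    rw [e1, e2]
    rfl

end CfsgLib.ThType.Psi
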