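import Cfsg.Agent.Lib.ThType.Psi.Search

/-!
# An element moving a to c and fixing s and t up to inversion
-/

set_option autoImplicit false
set_option maxRecDepth 100000
set_option linter.unusedSectionVars false

namespace CfsgLib.ThType.Psi

open CfsgLib.ThOut CfsgLib.ThType.Local Subgroup

attribute [local irreducible] qW conjT blocks sameM

variable [IsSimpleGroup Cfsg.Spor.Th] [Finite Cfsg.Spor.Th]

/-- The image of c. -/
noncomputable abbrev cH : ThOut.Hs := hev [4]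

theorem c_sq : cH * cH = 1 := by
  rw [← hev_append]; exact (hev_eq (by decide) (by decide) (by decide +kernel)).trans hev_nil

theorem a_c : zH * cH = cH * zH := zH_comm _

theorem s_seven : hel 10 ^ 7 = 1 := by
  have h := hev_eq (u := [10, 10, 10, 10, 10, 10, 10]) (v := []) (by decide) (by decide) (by decide +kernel)
  simpa [hev, pow_succ, mul_assoc] using h

theorem t_cube : hel 12 ^ 3 = 1 := by
  have h := hev_eq (u := [12, 12, 12]) (v := []) (by decide) (by decide) (by decide +kernel)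
  simpa [hev, pow_succ, mul_assoc] using h

theorem s_t : hel 10 * hel 12 = hel 12 * hel 10 ^ 2 := by
  have h := hev_eq (u := [10, 12]) (v := [12, 10, 10]) (by decide) (by decide) (by decide +kernel)
  simpa [hev, pow_two] using h

theorem s_c : Commute (hel 10) cH := by
  have h := hev_eq (u := [10, 4]) (v := [4, 10]) (by decide) (by decide) (by decide +kernel)
  show _ * _ = _ * _
  simpa [hev] using h

theorem t_c : Commute (hel 12) cH := by
  have h := hev_eq (u := [12, 4]) (v := [4, 12]) (by decide) (by decide) (by decide +kernel)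
  show _ * _ = _ * _
  simpa [hev] using h

theorem pow_t (i : ℕ) : hel 10 ^ i * hel 12 = hel 12 * hel 10 ^ (2 * i) := by
  induction i with
  | zero => simp
  | succ i ih => rw [pow_succ', mul_assoc, ih, ← mul_assoc, s_t, mul_assoc, ← pow_add]; ring_nf

theorem conj_t_pow (i : ℕ) : hel 10 ^ i * hel 12 * (hel 10 ^ i)⁻¹ = hel 12 * hel 10 ^ i := by
  rw [pow_t, two_mul, pow_add, ← mul_assoc, mul_inv_cancel_right]

theorem t_pow_conj (n : ℕ) : hel 10 * hel 12 ^ n = hel 12 ^ n * hel 10 ^ (2 ^ n) := by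
  induction n with
  | zero => simp
  | succ n ih => rw [pow_succ, ← mul_assoc, ih, mul_assoc, pow_t, ← mul_assoc, ← pow_succ' 2]

theorem s_ne : hel 10 ≠ (1 : ThOut.Hs) := fun e => by
  have := congrArg ThOut.pi e
  rw [pi_eq (rep_hel (by decide)), map_one] at this
  exact (by decide +kernel : permE 10 ≠ 1) this

theorem s_order : orderOf (hel 10 : ThOut.Hs) = 7 :=
  have : Fact (Nat.Prime 7) := ⟨by norm_num⟩
  orderOf_eq_prime s_seven s_ne

theorem four_codes : ∀ j < 4, hev (qe j) * hev (qe j) = 1 ∧ Commute (hev (qe j)) (hel 10) ∧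
    Commute (hev (qe j)) (hel 12) ∧ Commute (hev (qe j)) cH := by
  have hz : hev (qe 1) = zH := by rw [show qe 1 = [0] by decide +kernel]; simp [hev, zH]
  have hc : hev (qe 2) = cH := by rw [show qe 2 = [4] by decide +kernel]
  have hzc : hev (qe 3) = cH * zH := by
    rw [show qe 3 = [4, 0] by decide +kernel]; simp [hev, zH]
  intro j hj
  refine ⟨by rw [mulC_eq, show mulC j j = 0 by revert j; decide +kernel, qe_zero], ?_⟩
  interval_cases j
  · rw [qe_zero]; exact ⟨Commute.one_left _, Commute.one_left _, Commute.one_left _⟩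
  · rw [hz]; exact ⟨zH_comm _, zH_comm _, zH_comm _⟩
  · rw [hc]; exact ⟨s_c.symm, t_c.symm, Commute.refl _⟩
  · rw [hzc]
    exact ⟨s_c.symm.mul_left (zH_comm _), t_c.symm.mul_left (zH_comm _),
      (Commute.refl _).mul_left (zH_comm _)⟩

variable (hC : Nat.card (Subgroup.centralizer ({el 0} : Set Cfsg.Spor.Th)) ≤ 92897280)
variable {G : Type*} [Group G]

/-- The copy of the model and an element cycling a, c, ca. -/
structure Cyc (θ : ThOut.Hs →* G) (g : G) : Prop where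
  inj : Function.Injective θ
  range : centralizer ({θ zH} : Set G) = θ.range
  conj_a : g⁻¹ * θ zH * g = θ cH
  conj_c : g⁻¹ * θ cH * g = θ (cH * zH)

variable {θ : ThOut.Hs →* G} {g : G}

theorem Cyc.ac (S : Cyc θ g) : g⁻¹ * θ (cH * zH) * g = θ zH := by
  have h : g⁻¹ * θ (cH * zH) * g = (g⁻¹ * θ cH * g) * (g⁻¹ * θ zH * g) := by rw [map_mul]; group
  rw [h, S.conj_a, S.conj_c, ← map_mul, ← a_c, mul_assoc, c_sq, mul_one]

/-- The conjugate of an element of the model commuting with c. -/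
theorem Cyc.pull (S : Cyc θ g) {y : ThOut.Hs} (hy : Commute y cH) :
    ∃ x : ThOut.Hs, θ x = g⁻¹ * θ y * g ∧ Commute x cH := by
  have hz : Commute y zH := (zH_comm y).symm
  have hcomm : ∀ {p q : ThOut.Hs}, Commute y p → g⁻¹ * θ p * g = θ q →
      θ q * (g⁻¹ * θ y * g) = g⁻¹ * θ y * g * θ q := by
    intro p q hp hq
    rw [← hq, show g⁻¹ * θ p * g * (g⁻¹ * θ y * g) = g⁻¹ * (θ p * θ y) * g by group, ← map_mul,
      ← hp.eq, map_mul]
    group
  have hmem : g⁻¹ * θ y * g ∈ θ.range := by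
    rw [← S.range, mem_centralizer_singleton_iff]
    exact (hcomm (hy.mul_right hz) S.ac).symm
  obtain ⟨x, hx⟩ := hmem
  refine ⟨x, hx, S.inj ?_⟩
  rw [map_mul, map_mul, hx]
  exact (hcomm hz S.conj_a).symm

theorem Cyc.mul (S : Cyc θ g) {r : ThOut.Hs} (hr : Commute r cH) : Cyc θ (g * θ r) := by
  have key : ∀ y : ThOut.Hs, Commute r y → (θ r)⁻¹ * θ y * θ r = θ y := fun y h => by
    rw [← map_inv, ← map_mul, ← map_mul, mul_assoc, ← h.eq, inv_mul_cancel_left]
  refine ⟨S.inj, S.range, ?_, ?_⟩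
  · rw [show (g * θ r)⁻¹ * θ zH * (g * θ r) = (θ r)⁻¹ * (g⁻¹ * θ zH * g) * θ r by group, S.conj_a,
      key _ hr]
  · rw [show (g * θ r)⁻¹ * θ cH * (g * θ r) = (θ r)⁻¹ * (g⁻¹ * θ cH * g) * θ r by group, S.conj_c,
      key _ (hr.mul_right (zH_comm r).symm)]

theorem Cyc.conj_pow (S : Cyc θ g) {x y : ThOut.Hs} (h : θ x = g⁻¹ * θ y * g) :
    ∀ k : ℕ, θ (x ^ k) = g⁻¹ * θ (y ^ k) * g
  | 0 => by simp
  | k + 1 => by rw [pow_succ, map_mul, S.conj_pow h k, h, pow_succ, map_mul]; group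

theorem fac_seven {n : ℕ} (h : n ∣ 92897280) (h7 : 7 ∣ n) : n.factorization 7 = 1 := by
  have hn : n ≠ 0 := fun e => by simp [e] at h
  have hp : Nat.Prime 7 := by norm_num
  refine le_antisymm ?_ ((hp.pow_dvd_iff_le_factorization hn).1 (by simpa using h7))
  by_contra hlt
  have h49 := ((hp.pow_dvd_iff_le_factorization (k := 2) hn).2 (by omega)).trans h
  exact absurd h49 (by decide +kernel)

include hC

/-- Adjusting by the centraliser of a and c, s goes to a power of itself. -/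
theorem Cyc.exists_s (S : Cyc θ g) : ∃ r : ThOut.Hs, Commute r cH ∧
    ∃ k < 7, k ≠ 0 ∧ θ (hel 10 ^ k) = (g * θ r)⁻¹ * θ (hel 10) * (g * θ r) := by
  have : Fact (Nat.Prime 7) := ⟨by norm_num⟩
  obtain ⟨x, hx, hxc⟩ := S.pull s_c
  set K : Subgroup ThOut.Hs := centralizer {cH} with hK
  have hsK : hel 10 ∈ K := mem_centralizer_singleton_iff.2 s_c.eq
  have hxK : x ∈ K := mem_centralizer_singleton_iff.2 hxc.eq
  have ho : orderOf x = 7 := by
    refine orderOf_eq_prime (S.inj ?_) fun e => s_ne ?_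
    · rw [S.conj_pow hx, s_seven, map_one]; group
    · rw [e, map_one] at hx
      refine S.inj ?_
      rw [map_one]
      calc θ (hel 10) = g * (g⁻¹ * θ (hel 10) * g) * g⁻¹ := by group
        _ = 1 := by rw [← hx]; group
  have h7 : 7 ∣ Nat.card K := by
    have := orderOf_dvd_natCard (G := K) ⟨_, hsK⟩
    rwa [Subgroup.orderOf_mk, s_order] at this
  have hf : (Nat.card K).factorization 7 = 1 :=
    fac_seven (card_hs hC ▸ card_subgroup_dvd_card K) h7
  have hcard : ∀ y : K, orderOf (y : ThOut.Hs) = 7 →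
      Nat.card (zpowers y) = 7 ^ (Nat.card K).factorization 7 := fun y hy => by
    rw [Nat.card_zpowers, hf, pow_one, ← Subgroup.orderOf_coe, hy]
  let P : Sylow 7 K := Sylow.ofCard (zpowers ⟨_, hxK⟩) (hcard _ ho)
  let Q : Sylow 7 K := Sylow.ofCard (zpowers ⟨_, hsK⟩) (hcard _ s_order)
  obtain ⟨r, hr⟩ := MulAction.exists_smul_eq K P Q
  have hm : r * ⟨x, hxK⟩ * r⁻¹ ∈ (Q : Subgroup K) := by
    rw [← hr, Sylow.coe_subgroup_smul, mem_pointwise_smul_iff_inv_smul_mem]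
    show (MulAut.conj r)⁻¹ (r * ⟨x, hxK⟩ * r⁻¹) ∈ (P : Subgroup K)
    rw [MulAut.inv_apply, MulAut.conj_symm_apply,
      show r⁻¹ * (r * ⟨x, hxK⟩ * r⁻¹) * r = (⟨x, hxK⟩ : K) by group]
    exact mem_zpowers _
  have hm' : r * ⟨x, hxK⟩ * r⁻¹ ∈ zpowers (⟨_, hsK⟩ : K) := hm
  obtain ⟨k, hk⟩ := mem_powers_iff_mem_zpowers.2 hm'
  have hkv : hel 10 ^ (k % 7) = (r : ThOut.Hs) * x * (r : ThOut.Hs)⁻¹ := by
    rw [← s_order, pow_mod_orderOf]
    simpa using congrArg (fun y : K => (y : ThOut.Hs)) hk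
  have hrc : Commute (r : ThOut.Hs)⁻¹ cH :=
    (show Commute (r : ThOut.Hs) cH from mem_centralizer_singleton_iff.1 r.2).inv_left
  refine ⟨(r : ThOut.Hs)⁻¹, hrc, k % 7, Nat.mod_lt _ (by norm_num), fun h0 => ?_, ?_⟩
  · rw [h0, pow_zero] at hkv
    have : x = 1 := by
      calc x = (r : ThOut.Hs)⁻¹ * ((r : ThOut.Hs) * x * (r : ThOut.Hs)⁻¹) * r := by group
        _ = 1 := by rw [← hkv]; group
    rw [this, orderOf_one] at ho
    exact absurd ho (by norm_num)
  · rw [hkv, map_mul, map_mul, map_inv, hx]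
    group

/-- Adjusting further, t is fixed. -/
theorem Cyc.exists_t (S : Cyc θ g) {k : ℕ} (hk : k < 7) (hk0 : k ≠ 0)
    (hs : θ (hel 10 ^ k) = g⁻¹ * θ (hel 10) * g) : ∃ r : ThOut.Hs, Commute r cH ∧
    Commute r (hel 10) ∧ (g * θ r)⁻¹ * θ (hel 12) * (g * θ r) = θ (hel 12) := by
  obtain ⟨x, hx, hxc⟩ := S.pull t_c
  -- the image of t acts on the powers of s as t does
  have h4 : hel 12 * hel 10 * (hel 12)⁻¹ = (hel 10 : ThOut.Hs) ^ 4 := by
    have h := hev_eq (u := [12, 10]) (v := [10, 10, 10, 10, 12]) (by decide) (by decide) (by decide +kernel)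
    have h' : hel 12 * hel 10 = (hel 10 : ThOut.Hs) ^ 4 * hel 12 := by
      simpa [hev, pow_succ, mul_assoc] using h
    rw [h', mul_inv_cancel_right]
  have e1 : x * hel 10 ^ k * x⁻¹ = (hel 10 ^ k) ^ 4 := by
    refine S.inj ?_
    rw [map_mul, map_mul, map_inv, map_pow θ _ 4, hx, hs,
      show g⁻¹ * θ (hel 12) * g * (g⁻¹ * θ (hel 10) * g) * (g⁻¹ * θ (hel 12) * g)⁻¹ =
        g⁻¹ * (θ (hel 12) * θ (hel 10) * (θ (hel 12))⁻¹) * g by group,
      ← map_inv, ← map_mul, ← map_mul, h4, map_pow]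
    simp only [pow_succ, pow_zero, one_mul]
    group
  have e2 : hel 12 * hel 10 ^ k * (hel 12)⁻¹ = ((hel 10 : ThOut.Hs) ^ k) ^ 4 := by
    rw [← _root_.conj_pow, h4, ← pow_mul, ← pow_mul, mul_comm 4 k]
  obtain ⟨l, hl⟩ : ∃ l, (hel 10 : ThOut.Hs) = (hel 10 ^ k) ^ l := by
    obtain ⟨l, hl⟩ : ∃ l : Fin 7, k * l.val % 7 = 1 := by
      interval_cases k <;> first | exact absurd rfl hk0 | decide
    refine ⟨l.val, ?_⟩
    rw [← pow_mul, ← pow_mod_orderOf, s_order, hl, pow_one]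
  have hc1 : Commute ((hel 12)⁻¹ * x) (hel 10 ^ k) := by
    show _ * _ = _ * _
    have : hel 12 * hel 10 ^ k * (hel 12)⁻¹ = x * hel 10 ^ k * x⁻¹ := e2.trans e1.symm
    calc (hel 12)⁻¹ * x * hel 10 ^ k = (hel 12)⁻¹ * (x * hel 10 ^ k * x⁻¹) * x := by group
      _ = _ := by rw [← this]; group
  have hc2 : Commute ((hel 12)⁻¹ * x) (hel 10) := by
    rw [hl]; exact hc1.pow_right l
  obtain ⟨i, j, hj, e⟩ := fixed_sc hC hc2.eq ((t_c.inv_left.mul_left hxc).eq)
  obtain ⟨q2, qs, qt, qc⟩ := four_codes j hj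
  have ex : x = hel 12 * hel 10 ^ i * hev (qe j) := by
    rw [mul_assoc, ← e, mul_inv_cancel_left]
  have h3 : x ^ 3 = 1 := S.inj (by rw [S.conj_pow hx, t_cube, map_one]; group)
  have hq : hev (qe j) = 1 := by
    have hts : (hel 12 * hel 10 ^ i : ThOut.Hs) ^ 3 = 1 := by
      rw [← conj_t_pow, _root_.conj_pow, t_cube]; group
    have hcom : Commute (hel 12 * hel 10 ^ i) (hev (qe j)) := (qt.mul_right (qs.pow_right i)).symm
    rw [ex, hcom.mul_pow, hts, one_mul, pow_succ, pow_two, q2, one_mul] at h3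
    exact h3
  refine ⟨hel 10 ^ i, (s_c.pow_left i), (Commute.refl _).pow_left i, ?_⟩
  rw [show (g * θ (hel 10 ^ i))⁻¹ * θ (hel 12) * (g * θ (hel 10 ^ i)) =
    (θ (hel 10 ^ i))⁻¹ * (g⁻¹ * θ (hel 12) * g) * θ (hel 10 ^ i) by group, ← hx, ex, hq, mul_one,
    ← conj_t_pow, ← map_inv, ← map_mul, ← map_mul]
  congr 1
  group

/-- Adjusting by all of them, s goes to itself or its inverse and t is fixed. -/
theorem Cyc.exists_st (S : Cyc θ g) : ∃ h : G, Cyc θ h ∧ h⁻¹ * θ (hel 12) * h = θ (hel 12) ∧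
    ∃ m ∈ [1, 6], h⁻¹ * θ (hel 10) * h = θ (hel 10 ^ m) := by
  obtain ⟨r, hr, k, hk, hk0, hs⟩ := S.exists_s hC
  have S1 := S.mul hr
  obtain ⟨r', hr', hrs, ht⟩ := S1.exists_t hC hk hk0 hs
  set g2 := g * θ r * θ r' with hg2
  have S2 : Cyc θ g2 := S1.mul hr'
  have hs2 : g2⁻¹ * θ (hel 10) * g2 = θ (hel 10 ^ k) := by
    rw [show g2⁻¹ * θ (hel 10) * g2 = (θ r')⁻¹ * ((g * θ r)⁻¹ * θ (hel 10) * (g * θ r)) * θ r' by
      rw [hg2]; group, ← hs, ← map_inv, ← map_mul, ← map_mul, mul_assoc, ← (hrs.pow_right k).eq,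
      inv_mul_cancel_left]
  obtain ⟨n, m, hm, hnm⟩ : ∃ n, ∃ m ∈ [1, 6], k * 2 ^ n % 7 = m := by
    interval_cases k
    · exact absurd rfl hk0
    exacts [⟨0, 1, by simp⟩, ⟨2, 1, by simp⟩, ⟨1, 6, by simp⟩, ⟨1, 1, by simp⟩, ⟨2, 6, by simp⟩,
      ⟨0, 6, by simp⟩]
  refine ⟨g2 * θ (hel 12 ^ n), S2.mul (t_c.pow_left n), ?_, m, hm, ?_⟩
  · rw [show (g2 * θ (hel 12 ^ n))⁻¹ * θ (hel 12) * (g2 * θ (hel 12 ^ n)) =
      (θ (hel 12 ^ n))⁻¹ * (g2⁻¹ * θ (hel 12) * g2) * θ (hel 12 ^ n) by group, ht, ← map_inv,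
      ← map_mul, ← map_mul, mul_assoc, ← pow_succ', pow_succ, inv_mul_cancel_left]
  · rw [show (g2 * θ (hel 12 ^ n))⁻¹ * θ (hel 10) * (g2 * θ (hel 12 ^ n)) =
      (θ (hel 12 ^ n))⁻¹ * (g2⁻¹ * θ (hel 10) * g2) * θ (hel 12 ^ n) by group, hs2, ← map_inv,
      ← map_mul, ← map_mul]
    congr 1
    have hpow : ∀ i, (hel 10 : ThOut.Hs) ^ i * hel 12 ^ n = hel 12 ^ n * hel 10 ^ (2 ^ n * i) := by
      intro i
      induction i with
      | zero => simp
      | succ i ih =>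
        rw [pow_succ, mul_assoc, t_pow_conj, ← mul_assoc, ih, mul_assoc, ← pow_add]; ring_nf
    rw [mul_assoc, hpow, inv_mul_cancel_left, ← pow_mod_orderOf, s_order, mul_comm, hnm]

end CfsgLib.ThType.Psi
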