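import Cfsg.Agent.Lib.ThType.Psi.Cands

/-!
# The finite search for the images of e and u
-/

set_option autoImplicit false
set_option maxRecDepth 100000

namespace CfsgLib.ThType.Psi

open CfsgLib.ThOut CfsgLib.ThType.Local

attribute [local irreducible] qW conjT blocks sameM

/-- Words lying in Qs, with their codes. -/
def wTab0 : List (List ℕ × ℕ) :=
  [([], 0),
  ([4, 8, 14, 8, 14], 1),
  ([4, 12, 8, 14, 12, 8, 14], 1),
  ([4, 12, 12, 8, 14, 12, 12, 8, 14], 1),
  ([4, 12, 12, 14, 12, 12, 14], 1),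
  ([4, 12, 14, 12, 14], 1),
  ([4, 14, 14], 1),
  ([8, 8], 0)]

/-- Words lying in Qs, with their codes. -/
def wTab1 : List (List ℕ × ℕ) :=
  [([8, 10, 10, 10, 10, 10, 10, 8, 10, 10, 10, 10, 10, 8, 10, 10, 10], 0),
  ([8, 14, 8, 8, 14, 0, 8], 2),
  ([8, 14, 8, 14, 0], 2),
  ([8, 14, 10, 8, 14, 10, 8, 14, 10, 0], 2),
  ([8, 14, 10, 10, 10, 10, 10, 10, 8, 14, 10, 10, 10, 10, 10, 10, 8, 14, 10, 10, 10, 10, 10, 10, 0], 1),
  ([10, 10, 10, 10, 10, 10, 10], 0),
  ([10, 10, 10, 10, 10, 10, 10, 10, 10, 10, 10, 10, 10, 10], 0),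
  ([12, 8, 14, 8, 12, 8, 14, 0, 8], 2)]

/-- Words lying in Qs, with their codes. -/
def wTab2 : List (List ℕ × ℕ) :=
  [([12, 8, 14, 12, 8, 14, 0], 2),
  ([12, 12, 8, 10, 12, 12, 8, 10, 10, 12, 12, 8, 10, 10, 10, 10], 0),
  ([12, 12, 8, 14, 8, 12, 12, 8, 14, 0, 8], 2),
  ([12, 12, 8, 14, 12, 12, 8, 14, 0], 2),
  ([12, 12, 10, 10, 10, 10, 10, 10, 12, 12, 10, 10, 10, 10, 10, 12, 12, 10, 10, 10], 0),
  ([12, 12, 10, 12, 12, 10, 10, 12, 12, 10, 10, 10, 10], 0),
  ([12, 12, 14, 8, 12, 12, 14, 0, 8], 2),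
  ([12, 12, 14, 12, 12, 14, 0], 2)]

/-- Words lying in Qs, with their codes. -/
def wTab3 : List (List ℕ × ℕ) :=
  [([12, 14, 8, 12, 14, 0, 8], 2),
  ([12, 14, 12, 14, 0], 2),
  ([14, 8, 14, 0, 8], 2),
  ([14, 10, 10, 10, 10, 10, 10, 14, 10, 10, 10, 10, 10, 10, 14, 10, 10, 10, 10, 10, 10, 0], 1),
  ([14, 10, 14, 10, 14, 10, 0], 2),
  ([14, 14, 0], 2)]

/-- Words lying in Qs, with their codes. -/
def wTab : List (List ℕ × ℕ) :=
  wTab0 ++ wTab1 ++ wTab2 ++ wTab3

theorem wTab0_ok : (wTab0.all fun p => okW p.1 && okW (qe p.2) && sameM p.1 (qe p.2)) = true := by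
  decide +kernel

theorem wTab1_ok : (wTab1.all fun p => okW p.1 && okW (qe p.2) && sameM p.1 (qe p.2)) = true := by
  decide +kernel

theorem wTab2_ok : (wTab2.all fun p => okW p.1 && okW (qe p.2) && sameM p.1 (qe p.2)) = true := by
  decide +kernel

theorem wTab3_ok : (wTab3.all fun p => okW p.1 && okW (qe p.2) && sameM p.1 (qe p.2)) = true := by
  decide +kernel

theorem wTab_ok : (wTab.all fun p => okW p.1 && okW (qe p.2) && sameM p.1 (qe p.2)) = true := by
  simp only [wTab, List.all_append, wTab0_ok, wTab1_ok, wTab2_ok, wTab3_ok, Bool.and_self]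

/-- The value of the product is certainly not trivial. -/
def fails (T : List (ℕ × List ℕ)) : Bool :=
  let r := evT T
  decide (r.1 < 512) &&
    match wTab.find? (fun p => p.1 == r.2) with
    | some p => decide (mulC r.1 p.2 < 512) && !(mulC r.1 p.2 == 0)
    | none => !(permV r.2 == List.range 9)

/-- A power of s. -/
def sW (n : ℕ) : List ℕ := List.replicate (n % 7) 10

/-- The relations of an image of e, when s goes to its power m. -/
def relE (m : ℕ) (x : ℕ × List ℕ) : List (List (ℕ × List ℕ)) :=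
  [[x, x], [x, (0, sW (6 * m)), x, (0, sW (5 * m)), x, (0, sW (3 * m))]]

/-- The relations of an image of u. -/
def relU (m : ℕ) (x v : ℕ × List ℕ) : List (List (ℕ × List ℕ)) :=
  [[v, v, (0, [0])], [v, x, v, (0, [0]), x],
    [v, (0, sW m), v, (0, sW m), v, (0, sW m ++ [0])]]

/-- The relation of an image of u with the fixed element. -/
def relR (v : ℕ × List ℕ) : List (ℕ × List ℕ) := [(0, [4]), v, (409, []), v, (409, [])]

theorem eSearch_one : (six.all fun w => codesF.all fun j => (relE 1 (j, w)).any fails ||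
    [((0 : ℕ), ([] : List ℕ)), (407, []), (0, [8]), (12, [8])].contains (j, w)) = true := by
  decide +kernel

theorem eSearch_six : (six.all fun w => codesF.all fun j => (relE 6 (j, w)).any fails ||
    [((0 : ℕ), ([] : List ℕ)), (409, [])].contains (j, w)) = true := by
  decide +kernel

theorem uSearch_none : ([((1 : ℕ), ((0 : ℕ), [8])), (1, (12, [8])), (6, (409, []))].all fun p =>
    six.all fun w => codesF.all fun j => (relU p.1 p.2 (j, w ++ [14])).any fails) = true := by
  decide +kernel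

theorem uSearch_one : (six.all fun w => codesF.all fun j =>
    (relU 1 (407, []) (j, w ++ [14]) ++ [relR (j, w ++ [14])]).any fails ||
      (j, w) == (14, [])) = true := by
  decide +kernel

variable [IsSimpleGroup Cfsg.Spor.Th] [Finite Cfsg.Spor.Th]

theorem fails_sound {T : List (ℕ × List ℕ)} (hT : ∀ p ∈ T, ∀ g ∈ p.2, g ∈ gL) (h : valT T = 1) :
    fails T = false := by
  obtain ⟨e, hw⟩ := evT_eq hT
  rw [h] at e
  by_contra hne
  rw [Bool.not_eq_false] at hne
  simp only [fails, Bool.and_eq_true, decide_eq_true_eq] at hne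
  obtain ⟨hJ, hm⟩ := hne
  split at hm
  · rename_i p hp
    have hmem := List.mem_of_find?_eq_some hp
    have hp' := List.find?_some hp
    simp only [beq_iff_eq] at hp'
    have := List.all_eq_true.1 wTab_ok p hmem
    simp only [Bool.and_eq_true] at this
    have hW := hev_eq this.1.1 this.1.2 this.2
    simp only [Bool.and_eq_true, decide_eq_true_eq, Bool.not_eq_true', beq_eq_false_iff_ne] at hm
    rw [← hp', hW, mulC_eq] at e
    exact hm.2 (qe_inj hm.1 (by norm_num) (by rw [← e, qe_zero]))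
  · simp only [Bool.not_eq_true', beq_eq_false_iff_ne] at hm
    apply hm
    have hq : hev (qe (evT T).1) ∈ Qs := ⟨(evT T).1 / 2, by omega, ThOut.bar_qe _⟩
    have h1 : piA (hev (qe (evT T).1)) = 1 := qs_le_ker hq
    have h2 : pi (hev (qe (evT T).1)) = 1 := by rw [← coe_piA, h1]; rfl
    have := congrArg pi e
    rw [map_one, map_mul, h2, one_mul, pi_hev hw] at this
    rw [permV]
    refine (List.map_congr_left fun i _ => ?_).trans (b := (List.finRange 9).map fun i : Fin 9 => (i : ℕ)) ?_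
    · rw [← this]; rfl
    · decide

end CfsgLib.ThType.Psi
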